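import Mathlib

/-!
# Finite groups in which every non-abelian subgroup is self-normalizing
-/

set_option autoImplicit false

namespace Cfsg.Agent.H511

open Subgroup

/-- Every non-abelian subgroup is self-normalizing. -/
def SelfNorm (G : Type*) [Group G] : Prop :=
  ∀ H : Subgroup G, ¬ IsMulCommutative H → Subgroup.normalizer (H : Set G) = H

/-- The structure of the solvable non-nilpotent groups. -/
def Struct (G : Type*) [Group G] : Prop :=
  ∃ (x : G) (A : Subgroup G) (p : ℕ), p.Prime ∧ A.Normal ∧ IsMulCommutative A ∧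
    (∃ k : ℕ, orderOf x = p ^ k) ∧
      ¬ p ∣ Nat.card A ∧ (Subgroup.zpowers x).IsComplement' A ∧ x ^ p ∈ Subgroup.center G ∧
      ∀ a : G, a ∈ A → a ≠ 1 → x * a * x⁻¹ ≠ a

theorem comm_iff {G : Type*} [Group G] {H : Subgroup G} :
    IsMulCommutative H ↔ ∀ a ∈ H, ∀ b ∈ H, a * b = b * a := by
  constructor
  · intro h a ha b hb
    exact congrArg Subtype.val (h.is_comm.comm ⟨a, ha⟩ ⟨b, hb⟩)
  · intro h
    exact ⟨⟨fun a b => Subtype.ext (h a a.2 b b.2)⟩⟩

theorem comm_mono {G : Type*} [Group G] {H K : Subgroup G} (h : H ≤ K) (hK : IsMulCommutative K) :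
    IsMulCommutative H :=
  comm_iff.2 fun a ha b hb => comm_iff.1 hK a (h ha) b (h hb)

theorem comm_top {G : Type*} [Group G] : IsMulCommutative (⊤ : Subgroup G) ↔
    ∀ a b : G, a * b = b * a := by
  rw [comm_iff]
  simp

theorem comm_map {G G' : Type*} [Group G] [Group G'] {H : Subgroup G} (f : G →* G')
    (hH : IsMulCommutative H) : IsMulCommutative (H.map f) := by
  rw [comm_iff] at hH ⊢
  rintro _ ⟨a, ha, rfl⟩ _ ⟨b, hb, rfl⟩
  rw [← map_mul, ← map_mul, hH a ha b hb]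

theorem comm_of_map {G G' : Type*} [Group G] [Group G'] {H : Subgroup G} (f : G →* G')
    (hf : Function.Injective f) (hH : IsMulCommutative (H.map f)) : IsMulCommutative H := by
  rw [comm_iff] at hH ⊢
  intro a ha b hb
  apply hf
  rw [map_mul, map_mul]
  exact hH _ ⟨a, ha, rfl⟩ _ ⟨b, hb, rfl⟩

/-- The property passes to groups embedded in `G`. -/
theorem SelfNorm.of_injective {G K : Type*} [Group G] [Group K] (h : SelfNorm G) (f : K →* G)
    (hf : Function.Injective f) : SelfNorm K := by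
  intro H hH
  have h1 : ¬ IsMulCommutative (H.map f) := fun h2 => hH (comm_of_map f hf h2)
  have h2 := h _ h1
  apply le_antisymm _ Subgroup.le_normalizer
  intro g hg
  have h3 : f g ∈ Subgroup.normalizer ((H.map f : Subgroup G) : Set G) :=
    Subgroup.le_normalizer_map f ⟨g, hg, rfl⟩
  rw [h2] at h3
  obtain ⟨y, hy, hyg⟩ := h3
  rwa [← hf hyg]

theorem SelfNorm.subgroup {G : Type*} [Group G] (h : SelfNorm G) (K : Subgroup G) : SelfNorm K :=
  h.of_injective K.subtype K.subtype_injective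

theorem SelfNorm.of_surjective {G K : Type*} [Group G] [Group K] (h : SelfNorm G) (f : G →* K)
    (hf : Function.Surjective f) : SelfNorm K := by
  intro H hH
  have h1 : ¬ IsMulCommutative (H.comap f) := by
    intro h2
    apply hH
    have := comm_map f h2
    rwa [Subgroup.map_comap_eq_self_of_surjective hf] at this
  have h2 := h _ h1
  apply le_antisymm _ Subgroup.le_normalizer
  intro g hg
  obtain ⟨y, rfl⟩ := hf g
  have h3 : y ∈ (Subgroup.normalizer (H : Set K)).comap f := hg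
  have h4 : y ∈ Subgroup.normalizer ((H.comap f : Subgroup G) : Set G) :=
    Subgroup.le_normalizer_comap f h3
  rw [h2] at h4
  exact h4

/-- A normal non-abelian subgroup is everything. -/
theorem SelfNorm.eq_top {G : Type*} [Group G] (h : SelfNorm G) (N : Subgroup G) [hN : N.Normal]
    (hc : ¬ IsMulCommutative N) : N = ⊤ := by
  have := h N hc
  rw [Subgroup.normalizer_eq_top] at this
  exact this.symm

/-- proper normal subgroups are abelian -/
theorem SelfNorm.comm_of_normal {G : Type*} [Group G] (h : SelfNorm G) (N : Subgroup G)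
    [hN : N.Normal] (hc : N ≠ ⊤) : IsMulCommutative N := by
  by_contra h1
  exact hc (h.eq_top N h1)

/-! ### the structure gives the property -/

section Converse

variable {G : Type*} [Group G] [Finite G]

theorem norm_le_of_mem {x : G} {A : Subgroup G} [hAn : A.Normal]
    (hgen : ∀ g : G, ∃ (i : ℤ), ∃ a ∈ A, g = x ^ i * a)
    (hfix : ∀ a : G, a ∈ A → x * a * x⁻¹ = a → a = 1) (H : Subgroup G) (hx : x ∈ H) :
    Subgroup.normalizer (H : Set G) ≤ H := by
  intro g hg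
  obtain ⟨i, a, ha, rfl⟩ := hgen g
  have haN : a ∈ Subgroup.normalizer (H : Set G) := by
    have h1 : x ^ i ∈ Subgroup.normalizer (H : Set G) := Subgroup.le_normalizer (H.zpow_mem hx i)
    have h2 := (Subgroup.normalizer (H : Set G)).mul_mem
      ((Subgroup.normalizer (H : Set G)).inv_mem h1) hg
    simpa using h2
  refine H.mul_mem (H.zpow_mem hx i) ?_
  -- the map a ↦ a x a⁻¹ x⁻¹ on H ⊓ A
  let B : Subgroup G := H ⊓ A
  have hpsi : ∀ b ∈ B, b * (x * b⁻¹ * x⁻¹) ∈ B := by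
    intro b hb
    refine ⟨H.mul_mem hb.1 (H.mul_mem (H.mul_mem hx (H.inv_mem hb.1)) (H.inv_mem hx)),
      A.mul_mem hb.2 (hAn.conj_mem _ (A.inv_mem hb.2) x)⟩
  let ψ : B → B := fun b => ⟨b * (x * (b : G)⁻¹ * x⁻¹), hpsi b b.2⟩
  have key : ∀ b ∈ A, ∀ c ∈ A, b * (x * b⁻¹ * x⁻¹) = c * (x * c⁻¹ * x⁻¹) → b = c := by
    intro b hb c hc hbc
    have h1 : c⁻¹ * b ∈ A := A.mul_mem (A.inv_mem hc) hb
    have h2 : x * (c⁻¹ * b) * x⁻¹ = c⁻¹ * b := by
      have h3 : x * b⁻¹ * x⁻¹ ∈ A := hAn.conj_mem _ (A.inv_mem hb) x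
      have h4 : x * c⁻¹ * x⁻¹ ∈ A := hAn.conj_mem _ (A.inv_mem hc) x
      calc x * (c⁻¹ * b) * x⁻¹ = (x * c⁻¹ * x⁻¹) * (x * b⁻¹ * x⁻¹)⁻¹ := by group
        _ = c⁻¹ * (c * (x * c⁻¹ * x⁻¹)) * (x * b⁻¹ * x⁻¹)⁻¹ := by group
        _ = c⁻¹ * (b * (x * b⁻¹ * x⁻¹)) * (x * b⁻¹ * x⁻¹)⁻¹ := by rw [hbc]
        _ = c⁻¹ * b := by group
    have h3 := hfix _ h1 h2
    calc b = c * (c⁻¹ * b) := by group
      _ = c := by rw [h3, mul_one]
  have hinj : Function.Injective ψ := by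
    intro b c hbc
    exact Subtype.ext (key b b.2.2 c c.2.2 (congrArg Subtype.val hbc))
  have hsurj : Function.Surjective ψ := Finite.surjective_of_injective hinj
  have h5 : a * (x * a⁻¹ * x⁻¹) ∈ B := by
    refine ⟨?_, A.mul_mem ha (hAn.conj_mem _ (A.inv_mem ha) x)⟩
    have h6 : a * x * a⁻¹ ∈ H := (Subgroup.mem_normalizer_iff.1 haN x).1 hx
    have h7 : a * (x * a⁻¹ * x⁻¹) = (a * x * a⁻¹) * x⁻¹ := by group
    rw [h7]
    exact H.mul_mem h6 (H.inv_mem hx)
  obtain ⟨b, hb⟩ := hsurj ⟨_, h5⟩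
  have h8 := key b b.2.2 a ha (congrArg Subtype.val hb)
  rw [← h8]
  exact b.2.1

theorem Struct.selfNorm (h : Struct G) : SelfNorm G := by
  obtain ⟨x, A, p, hp, hAn, hAc, ⟨k, hk⟩, hpA, hcomp, hxp, hfix⟩ := h
  intro H hH
  apply le_antisymm _ Subgroup.le_normalizer
  have hgen : ∀ g : G, ∃ (i : ℤ), ∃ a ∈ A, g = x ^ i * a := by
    intro g
    obtain ⟨⟨⟨_, ⟨i, rfl⟩⟩, ⟨a, ha⟩⟩, h1⟩ := hcomp.surjective g
    exact ⟨i, a, ha, h1.symm⟩
  have hfix' : ∀ a : G, a ∈ A → x * a * x⁻¹ = a → a = 1 := by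
    intro a ha h1
    by_contra h2
    exact hfix a ha h2 h1
  have hAc' := comm_iff.1 hAc
  have hxpc : ∀ (j : ℤ) (g : G), x ^ ((p : ℤ) * j) * g = g * x ^ ((p : ℤ) * j) := by
    intro j g
    rw [zpow_mul, zpow_natCast]
    exact ((Subgroup.mem_center_iff.1 ((Subgroup.center G).zpow_mem hxp j)) g).symm
  -- some element of H involves a generator of ⟨x⟩
  have h1 : ∃ (i : ℤ), ∃ a ∈ A, x ^ i * a ∈ H ∧ ¬ (p : ℤ) ∣ i := by
    by_contra hcon
    push Not at hcon
    apply hH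
    rw [comm_iff]
    intro g hg h hh
    obtain ⟨i, a, ha, rfl⟩ := hgen g
    obtain ⟨j, b, hb, rfl⟩ := hgen h
    obtain ⟨i', rfl⟩ := hcon i a ha hg
    obtain ⟨j', rfl⟩ := hcon j b hb hh
    calc x ^ ((p : ℤ) * i') * a * (x ^ ((p : ℤ) * j') * b)
        = x ^ ((p : ℤ) * i') * (a * x ^ ((p : ℤ) * j')) * b := by group
      _ = x ^ ((p : ℤ) * i') * (x ^ ((p : ℤ) * j') * a) * b := by rw [hxpc j' a]
      _ = (x ^ ((p : ℤ) * i') * x ^ ((p : ℤ) * j')) * (a * b) := by group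
      _ = (x ^ ((p : ℤ) * j') * x ^ ((p : ℤ) * i')) * (b * a) := by
          rw [hAc' a ha b hb, hxpc i' (x ^ ((p : ℤ) * j'))]
      _ = x ^ ((p : ℤ) * j') * (x ^ ((p : ℤ) * i') * b) * a := by group
      _ = x ^ ((p : ℤ) * j') * (b * x ^ ((p : ℤ) * i')) * a := by rw [hxpc i' b]
      _ = x ^ ((p : ℤ) * j') * b * (x ^ ((p : ℤ) * i') * a) := by group
  obtain ⟨i, a, ha, haH, hpi⟩ := h1
  -- x is a power of x ^ i
  have hcop : IsCoprime i ((p : ℤ) ^ k) := by
    apply IsCoprime.pow_right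
    rw [isCoprime_comm]
    exact (Prime.coprime_iff_not_dvd (Nat.prime_iff_prime_int.1 hp)).2 hpi
  obtain ⟨u, v, huv⟩ := hcop
  have hxu : x = (x ^ i) ^ u := by
    have h2 : x ^ (u * i + v * (p : ℤ) ^ k) = x := by rw [huv, zpow_one]
    rw [zpow_add, mul_comm v, zpow_mul x ((p : ℤ) ^ k) v, mul_comm u i, zpow_mul] at h2
    have h3 : x ^ ((p : ℤ) ^ k) = 1 := by
      have := pow_orderOf_eq_one x
      rw [hk] at this
      exact_mod_cast this
    rw [h3, one_zpow, mul_one] at h2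
    exact h2.symm
  -- conjugate x ^ i to x ^ i * a
  have hfixi : ∀ b : G, b ∈ A → x ^ i * b = b * x ^ i → b = 1 := by
    intro b hb h2
    apply hfix' b hb
    have h3 : Commute (x ^ i) b := h2
    have h4 : Commute x b := by
      rw [hxu]
      exact h3.zpow_left u
    rw [h4.eq]
    group
  have hconj : ∃ c ∈ A, c * x ^ i * c⁻¹ = x ^ i * a := by
    let φ : A → A := fun c => ⟨(x ^ i)⁻¹ * c * x ^ i * (c : G)⁻¹, by
      have h2 : (x ^ i)⁻¹ * (c : G) * x ^ i ∈ A := by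
        have := hAn.conj_mem c c.2 (x ^ i)⁻¹
        simpa using this
      exact A.mul_mem h2 (A.inv_mem c.2)⟩
    have hφ : Function.Injective φ := by
      intro b c hbc
      have h2 : (x ^ i)⁻¹ * (b : G) * x ^ i * (b : G)⁻¹ =
        (x ^ i)⁻¹ * (c : G) * x ^ i * (c : G)⁻¹ := congrArg Subtype.val hbc
      have h3 : (b : G) * (c : G)⁻¹ ∈ A := A.mul_mem b.2 (A.inv_mem c.2)
      have h4 : (x ^ i)⁻¹ * ((b : G) * (c : G)⁻¹) * x ^ i = (b : G) * (c : G)⁻¹ := by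
        have h6 : (x ^ i)⁻¹ * (c : G) * x ^ i ∈ A := by
          have := hAn.conj_mem c c.2 (x ^ i)⁻¹
          simpa using this
        have h7 : (x ^ i)⁻¹ * (b : G) * x ^ i ∈ A := by
          have := hAn.conj_mem b b.2 (x ^ i)⁻¹
          simpa using this
        calc (x ^ i)⁻¹ * ((b : G) * (c : G)⁻¹) * x ^ i
            = ((x ^ i)⁻¹ * (b : G) * x ^ i * (b : G)⁻¹) * (b * ((x ^ i)⁻¹ * (c : G) * x ^ i)⁻¹) := by
              group
          _ = ((x ^ i)⁻¹ * (c : G) * x ^ i * (c : G)⁻¹) * (b * ((x ^ i)⁻¹ * (c : G) * x ^ i)⁻¹) := by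
              rw [h2]
          _ = ((x ^ i)⁻¹ * (c : G) * x ^ i) * ((c : G)⁻¹ * b) * ((x ^ i)⁻¹ * (c : G) * x ^ i)⁻¹ := by
              group
          _ = ((c : G)⁻¹ * b) * ((x ^ i)⁻¹ * (c : G) * x ^ i) * ((x ^ i)⁻¹ * (c : G) * x ^ i)⁻¹ := by
              rw [hAc' _ h6 _ (A.mul_mem (A.inv_mem c.2) b.2)]
          _ = (c : G)⁻¹ * b := by group
          _ = b * (c : G)⁻¹ := hAc' _ (A.inv_mem c.2) _ b.2
      have h5 := hfixi _ h3 (by
        calc x ^ i * ((b : G) * (c : G)⁻¹) = x ^ i * ((x ^ i)⁻¹ * ((b : G) * (c : G)⁻¹) * x ^ i) := by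
              rw [h4]
          _ = _ := by group)
      exact Subtype.ext (mul_inv_eq_one.1 h5)
    obtain ⟨c, hc⟩ := (Finite.surjective_of_injective hφ) ⟨a, ha⟩
    have h2 : (x ^ i)⁻¹ * (c : G) * x ^ i * (c : G)⁻¹ = a := congrArg Subtype.val hc
    refine ⟨c, c.2, ?_⟩
    rw [← h2]
    group
  obtain ⟨c, hc, hca⟩ := hconj
  have hx'H : c * x * c⁻¹ ∈ H := by
    have h2 : c * x * c⁻¹ = (c * x ^ i * c⁻¹) ^ u := by
      rw [conj_zpow]
      rw [← hxu]
    rw [h2, hca]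
    exact H.zpow_mem haH u
  refine norm_le_of_mem (x := c * x * c⁻¹) (A := A) ?_ ?_ H hx'H
  · intro g
    obtain ⟨j, b, hb, hj⟩ := hgen (c⁻¹ * g * c)
    refine ⟨j, c * b * c⁻¹, hAn.conj_mem b hb c, ?_⟩
    rw [conj_zpow]
    calc g = c * (c⁻¹ * g * c) * c⁻¹ := by group
      _ = _ := by rw [hj]; group
  · intro b hb h2
    have h3 : x * (c⁻¹ * b * c) * x⁻¹ = c⁻¹ * b * c := by
      calc x * (c⁻¹ * b * c) * x⁻¹ = c⁻¹ * (c * x * c⁻¹ * b * (c * x * c⁻¹)⁻¹) * c := by group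
        _ = _ := by rw [h2]
    have h4 : c⁻¹ * b * c ∈ A := by
      have := hAn.conj_mem b hb c⁻¹
      simpa using this
    have h5 := hfix' _ h4 h3
    calc b = c * (c⁻¹ * b * c) * c⁻¹ := by group
      _ = 1 := by rw [h5]; group

end Converse

end Cfsg.Agent.H511
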