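import Mathlib
import Cfsg.Agent.H511.SelfNorm

/-!
# A criterion for all non-abelian subgroups to be self-normalizing (the groups `SL₂(2^n)`)
-/

set_option autoImplicit false
set_option linter.style.haveILetI false
set_option linter.unusedSectionVars false

open scoped Pointwise

namespace Cfsg.Agent.H511

open Subgroup

universe u

/-- Elements of square `≠ 1` have abelian centralizers and are conjugate inside them at most to
their inverses. -/
def Inverting (G : Type*) [Group G] : Prop :=
  ∀ g : G, g ^ 2 ≠ 1 → (∀ a b : G, Commute a g → Commute b g → Commute a b) ∧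
    (∀ h : G, Commute (h * g * h⁻¹) g → h * g * h⁻¹ = g ∨ h * g * h⁻¹ = g⁻¹)

/-- Involution centralizers have exponent 2. -/
def InvCent (G : Type*) [Group G] : Prop :=
  ∀ t : G, t ≠ 1 → t ^ 2 = 1 → ∀ c : G, Commute c t → c ^ 2 = 1

theorem Inverting.subgroup {G : Type*} [Group G] (h : Inverting G) (K : Subgroup G) :
    Inverting K := by
  intro g hg
  have hg' : (g : G) ^ 2 ≠ 1 := fun hc => hg (Subtype.ext hc)
  obtain ⟨h1, h2⟩ := h g hg'
  refine ⟨?_, ?_⟩
  · intro a b ha hb
    exact Subtype.ext (h1 a b (congrArg Subtype.val ha) (congrArg Subtype.val hb))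
  · intro k hk
    rcases h2 k (congrArg Subtype.val hk) with h3 | h3
    · exact Or.inl (Subtype.ext h3)
    · exact Or.inr (Subtype.ext h3)

/-- a square that commutes: an element of odd order is a power of its square -/
theorem mem_zpowers_sq {G : Type*} [Group G] {g : G} (hg : Odd (orderOf g)) :
    ∃ k : ℕ, (g ^ 2) ^ k = g := by
  obtain ⟨m, hm⟩ := hg
  refine ⟨m + 1, ?_⟩
  rw [← pow_mul]
  have : 2 * (m + 1) = orderOf g + 1 := by omega
  rw [this, pow_succ, pow_orderOf_eq_one, one_mul]

theorem eq_one_of_odd {G : Type*} [Group G] {g : G} (hg : Odd (orderOf g)) (h2 : g ^ 2 = 1) :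
    g = 1 := by
  obtain ⟨k, hk⟩ := mem_zpowers_sq hg
  rw [← hk, h2, one_pow]

/-- an element of odd order cannot invert a nontrivial element of odd order -/
theorem conj_eq_of_odd {G : Type*} [Group G] {g h : G} (hg : Odd (orderOf g)) (hh : Odd (orderOf h))
    (hc : h * g * h⁻¹ = g ∨ h * g * h⁻¹ = g⁻¹) : h * g * h⁻¹ = g := by
  rcases hc with hc | hc
  · exact hc
  · have h1 : Commute (h ^ 2) g := by
      have h2 : h ^ 2 * g * (h ^ 2)⁻¹ = g := by
        calc h ^ 2 * g * (h ^ 2)⁻¹ = h * (h * g * h⁻¹) * h⁻¹ := by rw [pow_two]; group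
          _ = h * g⁻¹ * h⁻¹ := by rw [hc]
          _ = (h * g * h⁻¹)⁻¹ := by group
          _ = g := by rw [hc, inv_inv]
      exact mul_inv_eq_iff_eq_mul.1 h2
    obtain ⟨k, hk⟩ := mem_zpowers_sq hh
    have h3 : Commute h g := by
      rw [← hk]
      exact h1.pow_left k
    rw [h3.eq]
    group

theorem comm_of_odd : ∀ (n : ℕ) (G : Type u) [Group G] [Finite G], Nat.card G = n → Inverting G →
    Odd (Nat.card G) → ∀ a b : G, a * b = b * a := by
  intro n
  induction n using Nat.strong_induction_on with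
  | _ n ih =>
    intro G _ _ hn hI hodd
    have hoo : ∀ g : G, Odd (orderOf g) := fun g => hodd.of_dvd_nat (orderOf_dvd_natCard g)
    by_cases h1 : Nat.card G = 1
    · rw [Nat.card_eq_one_iff_unique] at h1
      intro a b
      exact h1.1.elim _ _
    obtain ⟨p, hp, hpG⟩ := Nat.exists_prime_and_dvd h1
    haveI : Fact p.Prime := ⟨hp⟩
    obtain ⟨P⟩ : Nonempty (Sylow p G) := inferInstance
    have hPb : (P : Subgroup G) ≠ ⊥ := by
      intro hc
      have h2 := P.dvd_card_of_dvd_card hpG
      rw [hc, Subgroup.card_bot] at h2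
      exact hp.one_lt.ne' (Nat.dvd_one.1 h2)
    have hPc : ∀ a ∈ (P : Subgroup G), ∀ b ∈ (P : Subgroup G), Commute a b := by
      haveI : Nontrivial P := (Subgroup.nontrivial_iff_ne_bot _).2 hPb
      haveI := P.2.center_nontrivial
      obtain ⟨z, hz⟩ := exists_ne (1 : Subgroup.center P)
      have hz1 : ((z : P) : G) ≠ 1 := by
        intro hc
        exact hz (Subtype.ext (Subtype.ext hc))
      have hz2 : ((z : P) : G) ^ 2 ≠ 1 := fun hc => hz1 (eq_one_of_odd (hoo _) hc)
      intro a ha b hb
      apply (hI _ hz2).1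
      · exact congrArg Subtype.val (Subgroup.mem_center_iff.1 z.2 ⟨a, ha⟩)
      · exact congrArg Subtype.val (Subgroup.mem_center_iff.1 z.2 ⟨b, hb⟩)
    have hNC : Subgroup.normalizer ((P : Subgroup G) : Set G) ≤
        Subgroup.centralizer ((P : Subgroup G) : Set G) := by
      intro h hh
      rw [Subgroup.mem_centralizer_iff]
      intro g hg
      by_cases hg1 : g = 1
      · rw [hg1]; group
      have hg2 : g ^ 2 ≠ 1 := fun hc => hg1 (eq_one_of_odd (hoo _) hc)
      have hcon : h * g * h⁻¹ ∈ (P : Subgroup G) := (Subgroup.mem_normalizer_iff.1 hh g).1 hg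
      have h3 := conj_eq_of_odd (hoo g) (hoo h) ((hI g hg2).2 h (hPc _ hcon _ hg))
      exact (mul_inv_eq_iff_eq_mul.1 h3).symm
    have hcompl := MonoidHom.ker_transferSylow_isComplement' P hNC
    set K := (MonoidHom.transferSylow P hNC).ker with hK
    have hKt : K ≠ ⊤ := by
      intro hc
      apply hPb
      have := hcompl.disjoint
      rw [hc] at this
      simpa using this
    have hKlt : Nat.card K < n := by
      rw [← hn]
      apply lt_of_le_of_ne (Nat.le_of_dvd Nat.card_pos (Subgroup.card_subgroup_dvd_card K))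
      intro hc
      exact hKt (Subgroup.eq_top_of_card_eq K hc)
    have hKc := ih _ hKlt K rfl (hI.subgroup K)
      (hodd.of_dvd_nat (Subgroup.card_subgroup_dvd_card K))
    by_cases hKb : K = ⊥
    · have h4 : (P : Subgroup G) = ⊤ := by
        have h5 := hcompl.card_mul_card
        rw [hKb, Subgroup.card_bot, one_mul] at h5
        exact Subgroup.eq_top_of_card_eq _ h5
      intro a b
      apply hPc
      · rw [h4]; exact Subgroup.mem_top _
      · rw [h4]; exact Subgroup.mem_top _
    · obtain ⟨k, hk, hk1⟩ : ∃ k ∈ K, k ≠ 1 := by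
        obtain ⟨k, hk⟩ := Subgroup.ne_bot_iff_exists_ne_one.1 hKb
        exact ⟨k, k.2, fun hc => hk (Subtype.ext hc)⟩
      have hk2 : k ^ 2 ≠ 1 := fun hc => hk1 (eq_one_of_odd (hoo _) hc)
      have hall : ∀ h : G, Commute h k := by
        intro h
        have hcon : h * k * h⁻¹ ∈ K := by
          haveI : K.Normal := by rw [hK]; infer_instance
          exact Subgroup.Normal.conj_mem inferInstance k hk h
        have h6 : Commute (h * k * h⁻¹) k :=
          congrArg Subtype.val (hKc ⟨_, hcon⟩ ⟨k, hk⟩)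
        have h3 := conj_eq_of_odd (hoo k) (hoo h) ((hI k hk2).2 h h6)
        exact mul_inv_eq_iff_eq_mul.1 h3
      intro a b
      exact (hI k hk2).1 a b (hall a) (hall b)

/-- In a group of exponent 2 (on a subgroup) elements commute. -/
theorem commute_of_sq {G : Type*} [Group G] {a b : G} (ha : a ^ 2 = 1) (hb : b ^ 2 = 1)
    (hab : (a * b) ^ 2 = 1) : a * b = b * a := by
  have h1 : a * a = 1 := by rw [← pow_two]; exact ha
  have h2 : b * b = 1 := by rw [← pow_two]; exact hb
  have h3 : a * b * (a * b) = 1 := by rw [← pow_two]; exact hab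
  calc a * b = (a * b * (a * b)) * (b⁻¹ * a⁻¹) := by group
    _ = b⁻¹ * a⁻¹ := by rw [h3, one_mul]
    _ = b * a := by rw [inv_eq_of_mul_eq_one_left h1, inv_eq_of_mul_eq_one_left h2]

theorem InvCent.comm {G : Type*} [Group G] (h : InvCent G) {t : G} (ht1 : t ≠ 1) (ht : t ^ 2 = 1)
    {a b : G} (ha : Commute a t) (hb : Commute b t) : a * b = b * a :=
  commute_of_sq (h t ht1 ht a ha) (h t ht1 ht b hb) (h t ht1 ht _ (ha.mul_left hb))

theorem exists_involution_of_isPGroup {G : Type*} [Group G] [Finite G] {T : Subgroup G}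
    (hT : IsPGroup 2 T) (hb : T ≠ ⊥) : ∃ t ∈ T, t ≠ 1 ∧ t ^ 2 = 1 ∧ ∀ s ∈ T, Commute s t := by
  haveI : Fact (Nat.Prime 2) := ⟨Nat.prime_two⟩
  haveI : Nontrivial T := (Subgroup.nontrivial_iff_ne_bot _).2 hb
  haveI := hT.center_nontrivial
  have h1 : 2 ∣ Nat.card (Subgroup.center T) := by
    obtain ⟨n, hn, h2⟩ := (hT.to_subgroup (Subgroup.center T)).nontrivial_iff_card.1 inferInstance
    rw [h2]
    exact dvd_pow_self 2 hn.ne'
  obtain ⟨z, hz⟩ := exists_prime_orderOf_dvd_card' 2 h1
  have hz2 := pow_orderOf_eq_one z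
  rw [hz] at hz2
  refine ⟨(z : T), (z : T).2, ?_, ?_, ?_⟩
  · intro hc
    have : z = 1 := Subtype.ext (Subtype.ext hc)
    rw [this, orderOf_one] at hz
    omega
  · exact congrArg (fun w : Subgroup.center T => ((w : T) : G)) hz2
  · intro s hs
    exact congrArg Subtype.val (Subgroup.mem_center_iff.1 z.2 ⟨s, hs⟩)

/-- A Sylow 2-subgroup is the centralizer of each of its involutions. -/
theorem InvCent.mem_sylow_iff {G : Type*} [Group G] [Finite G] (h : InvCent G) (S : Sylow 2 G)
    {t : G} (ht : t ∈ (S : Subgroup G)) (ht1 : t ≠ 1) (ht2 : t ^ 2 = 1) (g : G) :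
    g ∈ (S : Subgroup G) ↔ Commute g t := by
  haveI : Fact (Nat.Prime 2) := ⟨Nat.prime_two⟩
  have hSb : (S : Subgroup G) ≠ ⊥ := by
    intro hc
    rw [hc, Subgroup.mem_bot] at ht
    exact ht1 ht
  obtain ⟨z, -, hz1, hz2, hz⟩ := exists_involution_of_isPGroup S.2 hSb
  have hSc : ∀ a ∈ (S : Subgroup G), ∀ b ∈ (S : Subgroup G), a * b = b * a := fun a ha b hb =>
    h.comm hz1 hz2 (hz a ha) (hz b hb)
  have hle : (S : Subgroup G) ≤ Subgroup.centralizer {t} := by
    intro s hs
    rw [Subgroup.mem_centralizer_singleton_iff]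
    exact hSc s hs t ht
  have hCp : IsPGroup 2 (Subgroup.centralizer ({t} : Set G)) := by
    intro c
    refine ⟨1, Subtype.ext ?_⟩
    rw [pow_one]
    exact h t ht1 ht2 c (Subgroup.mem_centralizer_singleton_iff.1 c.2)
  have heq := S.3 hCp hle
  rw [← heq, Subgroup.mem_centralizer_singleton_iff]
  rfl

/-- **The criterion.** -/
theorem selfNorm_of {G : Type u} [Group G] [Finite G] (hC : InvCent G) (hI : Inverting G)
    {r : ℕ} (hr : r.Prime) (hr2 : r ≠ 2)
    (hS : ∀ S : Sylow 2 G, Nat.card S = r + 1 ∧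
      Nat.card (Subgroup.normalizer ((S : Subgroup G) : Set G)) = (r + 1) * r) : SelfNorm G := by
  haveI : Fact (Nat.Prime 2) := ⟨Nat.prime_two⟩
  haveI : Fact r.Prime := ⟨hr⟩
  intro H hH
  apply le_antisymm _ Subgroup.le_normalizer
  intro g hg
  have hnot : ¬ ∀ a b : H, a * b = b * a := fun hc => hH ⟨⟨hc⟩⟩
  obtain ⟨T⟩ : Nonempty (Sylow 2 H) := inferInstance
  have hTb : (T : Subgroup H) ≠ ⊥ := by
    intro hc
    apply hnot
    apply comm_of_odd _ H rfl (hI.subgroup H)
    by_contra hodd
    rw [Nat.not_odd_iff_even, even_iff_two_dvd] at hodd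
    have h2 := T.dvd_card_of_dvd_card hodd
    rw [hc, Subgroup.card_bot] at h2
    omega
  obtain ⟨t', htT, ht1', ht2', htc⟩ := exists_involution_of_isPGroup T.2 hTb
  obtain ⟨t, rfl⟩ : ∃ t : H, t = t' := ⟨t', rfl⟩
  have ht1 : (t : G) ≠ 1 := fun hc => ht1' (Subtype.ext hc)
  have ht2 : (t : G) ^ 2 = 1 := congrArg Subtype.val ht2'
  have hTc : ∀ a ∈ (T : Subgroup H), ∀ b ∈ (T : Subgroup H), a * b = b * a := by
    intro a ha b hb
    exact Subtype.ext (hC.comm ht1 ht2 (congrArg Subtype.val (htc a ha))
      (congrArg Subtype.val (htc b hb)))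
  -- elements commuting with an element of square ≠ 1 have odd order
  have hodd_of : ∀ k : G, k ^ 2 ≠ 1 → ∀ c : G, Commute c k → Odd (orderOf c) := by
    intro k hk c hc
    by_contra hcon
    rw [Nat.not_odd_iff_even, even_iff_two_dvd] at hcon
    obtain ⟨m, hm⟩ := hcon
    have h1 : orderOf (c ^ m) = 2 := by
      have hm0 : m ≠ 0 := by
        rintro rfl
        exact (orderOf_pos c).ne' (by rw [hm, mul_zero])
      rw [orderOf_pow, hm, Nat.gcd_eq_right (Dvd.intro_left 2 rfl), Nat.mul_div_cancel _
        (Nat.pos_of_ne_zero hm0)]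
    have h2 : c ^ m ≠ 1 := by
      intro h3
      rw [h3, orderOf_one] at h1
      omega
    have h3 : (c ^ m) ^ 2 = 1 := by rw [← h1, pow_orderOf_eq_one]
    exact hk (hC _ h2 h3 k (hc.symm.pow_right m))
  by_cases hNC : Subgroup.normalizer ((T : Subgroup H) : Set H) ≤
        Subgroup.centralizer ((T : Subgroup H) : Set H)
  · -- normal 2-complement
    have hcompl := MonoidHom.ker_transferSylow_isComplement' T hNC
    set K := (MonoidHom.transferSylow T hNC).ker with hK
    have hKodd : Odd (Nat.card K) := by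
      have := MonoidHom.not_dvd_card_ker_transferSylow T hNC
      rw [← Nat.not_even_iff_odd, even_iff_two_dvd]
      exact this
    have hKc := comm_of_odd _ K rfl ((hI.subgroup H).subgroup K) hKodd
    have hKb : K ≠ ⊥ := by
      intro hKb
      have h4 : (T : Subgroup H) = ⊤ := by
        have h5 := hcompl.card_mul_card
        rw [hKb, Subgroup.card_bot, one_mul] at h5
        exact Subgroup.eq_top_of_card_eq _ h5
      apply hnot
      intro a b
      apply hTc
      · rw [h4]; exact Subgroup.mem_top _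
      · rw [h4]; exact Subgroup.mem_top _
    obtain ⟨k, hk, hk1⟩ : ∃ k ∈ K, k ≠ 1 := by
      obtain ⟨k, hk⟩ := Subgroup.ne_bot_iff_exists_ne_one.1 hKb
      exact ⟨k, k.2, fun hc => hk (Subtype.ext hc)⟩
    have hkodd : Odd (orderOf (k : G)) := by
      have h5 : orderOf (k : G) ∣ Nat.card K := by
        have := orderOf_dvd_natCard (⟨k, hk⟩ : K)
        rwa [← Subgroup.orderOf_coe, ← Subgroup.orderOf_coe] at this
      exact hKodd.of_dvd_nat h5
    have hk1' : (k : G) ≠ 1 := fun hc => hk1 (Subtype.ext hc)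
    have hk2 : (k : G) ^ 2 ≠ 1 := fun hc => hk1' (eq_one_of_odd hkodd hc)
    -- odd order elements of H lie in K
    have hmemK : ∀ y : H, Odd (orderOf y) → y ∈ K := by
      intro y hy
      rw [hK, MonoidHom.mem_ker]
      have h5 : orderOf (MonoidHom.transferSylow T hNC y) ∣ orderOf y := orderOf_map_dvd _ _
      obtain ⟨j, hj⟩ := T.2 (MonoidHom.transferSylow T hNC y)
      have h6 : orderOf (MonoidHom.transferSylow T hNC y) ∣ 2 ^ j := orderOf_dvd_of_pow_eq_one hj
      have h7 : (orderOf y).Coprime (2 ^ j) := by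
        apply Nat.Coprime.pow_right
        exact (Nat.coprime_two_right).2 hy
      have h8 := Nat.dvd_gcd h5 h6
      rw [Nat.coprime_iff_gcd_eq_one.1 h7] at h8
      exact orderOf_eq_one_iff.1 (Nat.dvd_one.1 h8)
    -- conjugates of k by N(H)
    have hconjk : ∀ y ∈ Subgroup.normalizer (H : Set G),
        y * k * y⁻¹ = k ∨ y * k * y⁻¹ = (k : G)⁻¹ := by
      intro y hy
      have h5 : y * k * y⁻¹ ∈ H := (Subgroup.mem_normalizer_iff.1 hy k).1 k.2
      apply (hI _ hk2).2
      have h6 : (⟨_, h5⟩ : H) ∈ K := by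
        apply hmemK
        have h7 : orderOf (y * k * y⁻¹) = orderOf (k : G) := by
          have := orderOf_injective (MulAut.conj y).toMonoidHom (MulAut.conj y).injective (k : G)
          simpa using this
        rw [← Subgroup.orderOf_coe, h7]
        exact hkodd
      exact congrArg (fun w : K => ((w : H) : G)) (hKc ⟨_, h6⟩ ⟨k, hk⟩)
    have htN : (t : G) ∈ Subgroup.normalizer (H : Set G) := Subgroup.le_normalizer t.2
    have htk : (t : G) * k * (t : G)⁻¹ = (k : G)⁻¹ := by
      rcases hconjk t htN with h5 | h5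
      · exfalso
        apply hk2
        apply hC t ht1 ht2
        exact (mul_inv_eq_iff_eq_mul.1 h5).symm
      · exact h5
    -- t inverts the centralizer of k
    have htinv : ∀ c : G, Commute c k → (t : G) * c * (t : G)⁻¹ = c⁻¹ := by
      intro c hc
      by_cases hc2 : c ^ 2 = 1
      · have : c = 1 := eq_one_of_odd (hodd_of k hk2 c hc) hc2
        rw [this]; group
      · have h5 : Commute ((t : G) * c * (t : G)⁻¹) k := by
          have h6 : Commute ((t : G) * c * (t : G)⁻¹) ((t : G) * k * (t : G)⁻¹) := by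
            change (t : G) * c * (t : G)⁻¹ * ((t : G) * k * (t : G)⁻¹) =
              (t : G) * k * (t : G)⁻¹ * ((t : G) * c * (t : G)⁻¹)
            calc (t : G) * c * (t : G)⁻¹ * ((t : G) * k * (t : G)⁻¹)
                = (t : G) * (c * k) * (t : G)⁻¹ := by group
              _ = (t : G) * (k * c) * (t : G)⁻¹ := by rw [hc.eq]
              _ = _ := by group
          rw [htk] at h6
          exact h6.symm.inv_left.symm |> fun h => by simpa using h
        have h7 : Commute ((t : G) * c * (t : G)⁻¹) c := (hI _ hk2).1 _ _ h5 hc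
        rcases (hI c hc2).2 t h7 with h8 | h8
        · exfalso
          apply hc2
          apply hC t ht1 ht2
          exact (mul_inv_eq_iff_eq_mul.1 h8).symm
        · exact h8
    -- reduction to g centralizing k
    have hmain : ∀ y ∈ Subgroup.normalizer (H : Set G), Commute y k → y ∈ H := by
      intro y hy hyk
      have h5 : y * t * y⁻¹ ∈ H := (Subgroup.mem_normalizer_iff.1 hy t).1 t.2
      have h6 : y ^ 2 ∈ H := by
        have h7 := htinv y hyk
        have h8 : y ^ 2 = (y * t * y⁻¹) * (t : G)⁻¹ := by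
          have h9 : (t : G) * y⁻¹ * (t : G)⁻¹ = y := by
            calc (t : G) * y⁻¹ * (t : G)⁻¹ = ((t : G) * y * (t : G)⁻¹)⁻¹ := by group
              _ = y := by rw [h7, inv_inv]
          calc y ^ 2 = y * y := pow_two y
            _ = y * ((t : G) * y⁻¹ * (t : G)⁻¹) := by rw [h9]
            _ = _ := by group
        rw [h8]
        exact H.mul_mem h5 (H.inv_mem t.2)
      obtain ⟨m, hm⟩ := mem_zpowers_sq (hodd_of k hk2 y hyk)
      rw [← hm]
      exact H.pow_mem h6 m
    rcases hconjk g hg with h5 | h5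
    · exact hmain g hg (mul_inv_eq_iff_eq_mul.1 h5)
    · have h6 : (t : G)⁻¹ * g ∈ Subgroup.normalizer (H : Set G) :=
        (Subgroup.normalizer (H : Set G)).mul_mem
          ((Subgroup.normalizer (H : Set G)).inv_mem htN) hg
      have h7 : Commute ((t : G)⁻¹ * g) k := by
        have h8 : ((t : G)⁻¹ * g) * k * ((t : G)⁻¹ * g)⁻¹ = k := by
          calc ((t : G)⁻¹ * g) * k * ((t : G)⁻¹ * g)⁻¹ = (t : G)⁻¹ * (g * k * g⁻¹) * t := by group
            _ = (t : G)⁻¹ * ((t : G) * k * (t : G)⁻¹) * t := by rw [h5, htk]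
            _ = k := by group
        exact mul_inv_eq_iff_eq_mul.1 h8
      have h8 := hmain _ h6 h7
      have h9 := H.mul_mem t.2 h8
      simpa using h9
  · -- no normal 2-complement: H contains a Sylow normalizer
    obtain ⟨h, hhN, hhC⟩ := SetLike.not_le_iff_exists.1 hNC
    have hTp : IsPGroup 2 ((T : Subgroup H).map H.subtype) := T.2.map H.subtype
    obtain ⟨S, hTS⟩ := hTp.exists_le_sylow
    have htS : (t : G) ∈ (S : Subgroup G) := hTS ⟨t, htT, rfl⟩
    have hSb : (S : Subgroup G) ≠ ⊥ := by
      intro hc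
      rw [hc, Subgroup.mem_bot] at htS
      exact ht1 htS
    have hSsq : ∀ s ∈ (S : Subgroup G), s ^ 2 = 1 := by
      intro s hs
      exact hC t ht1 ht2 s ((hC.mem_sylow_iff S htS ht1 ht2 s).1 hs)
    obtain ⟨hScard, hNcard⟩ := hS S
    set N := Subgroup.normalizer ((S : Subgroup G) : Set G) with hN
    have hSN : (S : Subgroup G) ≤ N := Subgroup.le_normalizer
    -- h normalizes S
    have hhS : (h : G) ∈ N := by
      rw [hN, Subgroup.mem_normalizer_iff]
      intro s
      have h1 : (h : G) * t * (h : G)⁻¹ ∈ (S : Subgroup G) := by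
        apply hTS
        refine ⟨h * t * h⁻¹, ?_, rfl⟩
        exact (Subgroup.mem_normalizer_iff.1 hhN t).1 htT
      have h2 : (h : G) * t * (h : G)⁻¹ ≠ 1 := by
        intro hc
        apply ht1
        rwa [mul_inv_eq_one, mul_eq_left] at hc
      rw [hC.mem_sylow_iff S htS ht1 ht2 s, hC.mem_sylow_iff S h1 h2 (hSsq _ h1)]
      constructor
      · intro hc
        change (h : G) * s * (h : G)⁻¹ * ((h : G) * t * (h : G)⁻¹) =
          (h : G) * t * (h : G)⁻¹ * ((h : G) * s * (h : G)⁻¹)
        calc (h : G) * s * (h : G)⁻¹ * ((h : G) * t * (h : G)⁻¹)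
            = (h : G) * (s * t) * (h : G)⁻¹ := by group
          _ = (h : G) * (t * s) * (h : G)⁻¹ := by rw [hc.eq]
          _ = _ := by group
      · intro hc
        have hc' : (h : G) * s * (h : G)⁻¹ * ((h : G) * t * (h : G)⁻¹) =
          (h : G) * t * (h : G)⁻¹ * ((h : G) * s * (h : G)⁻¹) := hc
        change s * t = t * s
        calc s * t = (h : G)⁻¹ * ((h : G) * s * (h : G)⁻¹ * ((h : G) * t * (h : G)⁻¹)) * h := by
              group
          _ = (h : G)⁻¹ * ((h : G) * t * (h : G)⁻¹ * ((h : G) * s * (h : G)⁻¹)) * h := by rw [hc']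
          _ = _ := by group
    have hhS' : (h : G) ∉ (S : Subgroup G) := by
      intro hc
      apply hhC
      rw [Subgroup.mem_centralizer_iff]
      intro s hs
      apply Subtype.ext
      have hsS : (s : G) ∈ (S : Subgroup G) := hTS ⟨s, hs, rfl⟩
      exact (hC.comm ht1 ht2 ((hC.mem_sylow_iff S htS ht1 ht2 _).1 hsS)
        ((hC.mem_sylow_iff S htS ht1 ht2 _).1 hc))
    -- 2-elements of N are in S
    have h2N : ∀ y ∈ N, ∀ j : ℕ, y ^ 2 ^ j = 1 → y ∈ (S : Subgroup G) := by
      intro y hy j hj
      have hpz : IsPGroup 2 (Subgroup.zpowers y) := by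
        rintro ⟨_, ⟨n, rfl⟩⟩
        refine ⟨j, Subtype.ext ?_⟩
        change (y ^ n) ^ 2 ^ j = 1
        rw [← zpow_natCast, ← zpow_mul, mul_comm, zpow_mul, zpow_natCast, hj, one_zpow]
      have hle : Subgroup.zpowers y ≤ Subgroup.normalizer ((S : Subgroup G) : Set G) := by
        rw [Subgroup.zpowers_le]; exact hy
      have hsup : IsPGroup 2 (Subgroup.zpowers y ⊔ (S : Subgroup G) : Subgroup G) :=
        hpz.to_sup_of_normal_right' S.2 hle
      have h9 := S.3 hsup le_sup_right
      rw [← h9]
      exact Subgroup.mem_sup_left (Subgroup.mem_zpowers y)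
    -- r divides the order of H ⊓ N
    have hcardHN : Nat.card (H ⊓ N : Subgroup G) ∣ (r + 1) * r := by
      rw [← hNcard]
      exact Subgroup.card_dvd_of_le inf_le_right
    obtain ⟨e, he⟩ := IsPGroup.iff_card.1 S.2
    have he' : r + 1 = 2 ^ e := by rw [← he, ← hScard]
    have hrdvd : r ∣ Nat.card (H ⊓ N : Subgroup G) := by
      by_contra hcon
      have h1 : (Nat.card (H ⊓ N : Subgroup G)).Coprime r :=
        ((Nat.Prime.coprime_iff_not_dvd hr).2 hcon).symm
      have h2 : Nat.card (H ⊓ N : Subgroup G) ∣ 2 ^ e := by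
        rw [← he']
        exact h1.dvd_of_dvd_mul_right hcardHN
      apply hhS'
      apply h2N h hhS e
      have h3 : orderOf (⟨h, h.2, hhS⟩ : (H ⊓ N : Subgroup G)) ∣ 2 ^ e :=
        (_root_.orderOf_dvd_natCard _).trans h2
      have h4 := orderOf_dvd_iff_pow_eq_one.1 h3
      exact congrArg Subtype.val h4
    obtain ⟨y, hy⟩ := exists_prime_orderOf_dvd_card' r hrdvd
    have hyH : (y : G) ∈ H := y.2.1
    have hyN : (y : G) ∈ N := y.2.2
    have hyo : orderOf (y : G) = r := by rw [Subgroup.orderOf_coe]; exact hy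
    -- T = H ⊓ S
    have hTeq : (T : Subgroup H).map H.subtype = H ⊓ (S : Subgroup G) := by
      apply le_antisymm
      · rintro _ ⟨s, hs, rfl⟩
        exact ⟨s.2, hTS ⟨s, hs, rfl⟩⟩
      · rintro s ⟨hsH, hsS⟩
        have hp2 : IsPGroup 2 ((S : Subgroup G).subgroupOf H) :=
          S.2.comap_of_injective H.subtype H.subtype_injective
        have hle : (T : Subgroup H) ≤ (S : Subgroup G).subgroupOf H := by
          intro s hs
          rw [Subgroup.mem_subgroupOf]
          exact hTS ⟨s, hs, rfl⟩
        have h9 := T.3 hp2 hle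
        refine ⟨⟨s, hsH⟩, ?_, rfl⟩
        change (⟨s, hsH⟩ : H) ∈ (T : Subgroup H)
        rw [← h9, Subgroup.mem_subgroupOf]
        exact hsS
    -- y acts on H ⊓ S without fixed points
    have hmod : Nat.card (H ⊓ (S : Subgroup G) : Subgroup G) ≡ 1 [MOD r] := by
      let X := (H ⊓ (S : Subgroup G) : Subgroup G)
      have hconj : ∀ (z : Subgroup.zpowers (y : G)) (s : G), s ∈ X → (z : G) * s * (z : G)⁻¹ ∈ X := by
        intro z s hs
        have hzH : (z : G) ∈ H := by
          have : Subgroup.zpowers (y : G) ≤ H := by rw [Subgroup.zpowers_le]; exact hyH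
          exact this z.2
        have hzN : (z : G) ∈ N := by
          have : Subgroup.zpowers (y : G) ≤ N := by rw [Subgroup.zpowers_le]; exact hyN
          exact this z.2
        exact ⟨H.mul_mem (H.mul_mem hzH hs.1) (H.inv_mem hzH),
          (Subgroup.mem_normalizer_iff.1 hzN s).1 hs.2⟩
      letI : MulAction (Subgroup.zpowers (y : G)) X :=
        { smul := fun z s => ⟨(z : G) * s * (z : G)⁻¹, hconj z s s.2⟩
          one_smul := by
            intro s
            apply Subtype.ext
            change ((1 : Subgroup.zpowers (y : G)) : G) * s * ((1 : Subgroup.zpowers (y : G)) : G)⁻¹ = s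
            simp
          mul_smul := by
            intro z w s
            apply Subtype.ext
            change ((z * w : Subgroup.zpowers (y : G)) : G) * s *
              ((z * w : Subgroup.zpowers (y : G)) : G)⁻¹ = (z : G) * ((w : G) * s * (w : G)⁻¹) * (z : G)⁻¹
            rw [Subgroup.coe_mul]
            group }
      have hyp : IsPGroup r (Subgroup.zpowers (y : G)) := by
        apply IsPGroup.of_card (n := 1)
        rw [Nat.card_zpowers, hyo, pow_one]
      have h1 := hyp.card_modEq_card_fixedPoints X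
      have h2 : Nat.card (MulAction.fixedPoints (Subgroup.zpowers (y : G)) X) = 1 := by
        rw [Nat.card_eq_one_iff_unique]
        constructor
        · constructor
          have key : ∀ s : MulAction.fixedPoints (Subgroup.zpowers (y : G)) X, ((s : X) : G) = 1 := by
            rintro ⟨s, hs⟩
            by_contra hs1
            have h3 := hs ⟨y, Subgroup.mem_zpowers _⟩
            have h4 : (y : G) * (s : G) * (y : G)⁻¹ = s := congrArg Subtype.val h3
            have h5 : Commute (y : G) (s : G) := mul_inv_eq_iff_eq_mul.1 h4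
            have h6 := hC s hs1 (hSsq s s.2.2) y h5
            have h7 : orderOf (y : G) ∣ 2 := orderOf_dvd_of_pow_eq_one h6
            rw [hyo, Nat.prime_dvd_prime_iff_eq hr Nat.prime_two] at h7
            exact hr2 h7
          intro a b
          apply Subtype.ext
          apply Subtype.ext
          rw [key a, key b]
        · refine ⟨⟨1, ?_⟩⟩
          intro z
          apply Subtype.ext
          change (z : G) * ((1 : X) : G) * (z : G)⁻¹ = ((1 : X) : G)
          simp
      rw [h2] at h1
      exact h1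
    have hcard1 : 1 < Nat.card (H ⊓ (S : Subgroup G) : Subgroup G) := by
      rw [Finite.one_lt_card_iff_nontrivial]
      exact ⟨⟨⟨t, t.2, htS⟩, 1, fun hc => ht1 (congrArg Subtype.val hc)⟩⟩
    have hcard2 : Nat.card (H ⊓ (S : Subgroup G) : Subgroup G) ≤ r + 1 := by
      rw [← hScard]
      exact Subgroup.card_le_of_le inf_le_right
    have hcard3 : Nat.card (H ⊓ (S : Subgroup G) : Subgroup G) = r + 1 := by
      have h1 : r ∣ Nat.card (H ⊓ (S : Subgroup G) : Subgroup G) - 1 :=
        (Nat.modEq_iff_dvd' hcard1.le).1 hmod.symm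
      have h2 := Nat.le_of_dvd (by omega) h1
      omega
    have hSH : (S : Subgroup G) ≤ H := by
      have h1 : H ⊓ (S : Subgroup G) = S := by
        apply Subgroup.eq_of_le_of_card_ge inf_le_right
        rw [hcard3]
        exact hScard.le
      rw [← h1]
      exact inf_le_left
    have hNH : N ≤ H := by
      have h1 : H ⊓ N = N := by
        apply Subgroup.eq_of_le_of_card_ge inf_le_right
        rw [hNcard]
        apply Nat.le_of_dvd Nat.card_pos
        apply Nat.Coprime.mul_dvd_of_dvd_of_dvd _ _ hrdvd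
        · simp
        · rw [← hScard]
          exact Subgroup.card_dvd_of_le (le_inf hSH hSN)
      rw [← h1]
      exact inf_le_left
    -- Frattini
    have hgS : ((g • S : Sylow 2 G) : Subgroup G) ≤ H := by
      intro x hx
      rw [Sylow.smul_def, Sylow.pointwise_smul_def] at hx
      obtain ⟨s, hs, rfl⟩ := hx
      exact (Subgroup.mem_normalizer_iff.1 hg s).1 (hSH hs)
    obtain ⟨k, hk⟩ := MulAction.exists_smul_eq H ((g • S).subtype hgS) (S.subtype hSH)
    have hkg : (k : G) * g ∈ N := by
      rw [hN, Subgroup.mem_normalizer_iff_map_conj_eq]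
      have h1 : ((k • ((g • S).subtype hgS) : Sylow 2 H) : Subgroup H) =
        (S.subtype hSH : Subgroup H) := by rw [hk]
      ext x
      constructor
      · rintro ⟨s, hs, rfl⟩
        have h2 : (g * s * g⁻¹ : G) ∈ ((g • S : Sylow 2 G) : Subgroup G) := ⟨s, hs, rfl⟩
        have h3 : (⟨g * s * g⁻¹, hgS h2⟩ : H) ∈ ((g • S).subtype hgS : Subgroup H) :=
          Subgroup.mem_subgroupOf.2 h2
        have h4 : k * ⟨g * s * g⁻¹, hgS h2⟩ * k⁻¹ ∈
            ((k • ((g • S).subtype hgS) : Sylow 2 H) : Subgroup H) := ⟨_, h3, rfl⟩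
        rw [h1] at h4
        have h5 := Subgroup.mem_subgroupOf.1 h4
        have h6 : (k : G) * g * s * ((k : G) * g)⁻¹ = (k : G) * (g * s * g⁻¹) * (k : G)⁻¹ := by
          group
        change (k : G) * g * s * ((k : G) * g)⁻¹ ∈ (S : Subgroup G)
        rw [h6]
        exact h5
      · intro hx
        have h2 : (⟨x, hSH hx⟩ : H) ∈ ((k • ((g • S).subtype hgS) : Sylow 2 H) : Subgroup H) := by
          rw [h1]
          exact Subgroup.mem_subgroupOf.2 hx
        obtain ⟨w, hw, hwx⟩ := h2
        have h3 : (w : G) ∈ ((g • S : Sylow 2 G) : Subgroup G) := Subgroup.mem_subgroupOf.1 hw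
        obtain ⟨s, hs, hsw⟩ := h3
        refine ⟨s, hs, ?_⟩
        have h4 : (k : G) * w * (k : G)⁻¹ = x := congrArg Subtype.val hwx
        have h5 : g * s * g⁻¹ = w := hsw
        rw [← h4, ← h5]
        simp [mul_assoc]
    have h1 := H.mul_mem (H.inv_mem k.2) (hNH hkg)
    simpa using h1

end Cfsg.Agent.H511
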