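import Mathlib
import Cfsg.Agent.H511.SelfNormCrit
import Cfsg.Agent.S1227

/-!
# The groups `SL₂(F)` in characteristic 2: centralizers
-/

set_option autoImplicit false
set_option linter.style.haveILetI false
set_option linter.unusedSectionVars false

namespace Cfsg.Agent.H511.SL2Even



variable {F : Type*} [Field F]

local notation "SL2" => Matrix.SpecialLinearGroup (Fin 2) F

theorem ext_iff' {A B : SL2} : A = B ↔
    A.1 0 0 = B.1 0 0 ∧ A.1 0 1 = B.1 0 1 ∧ A.1 1 0 = B.1 1 0 ∧ A.1 1 1 = B.1 1 1 := by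
  constructor
  · rintro rfl
    exact ⟨rfl, rfl, rfl, rfl⟩
  · rintro ⟨h1, h2, h3, h4⟩
    apply Subtype.ext
    ext i j
    fin_cases i <;> fin_cases j
    · exact h1
    · exact h2
    · exact h3
    · exact h4

theorem mul_ent (A B : SL2) (i j : Fin 2) :
    (A * B).1 i j = A.1 i 0 * B.1 0 j + A.1 i 1 * B.1 1 j := by
  rw [Matrix.SpecialLinearGroup.coe_mul, Matrix.mul_apply, Fin.sum_univ_two]

theorem det_ent (A : SL2) : A.1 0 0 * A.1 1 1 - A.1 0 1 * A.1 1 0 = 1 := by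
  have := A.2
  rwa [Matrix.det_fin_two] at this

theorem inv_ent (A : SL2) : A⁻¹.1 0 0 = A.1 1 1 ∧ A⁻¹.1 0 1 = - A.1 0 1 ∧
    A⁻¹.1 1 0 = - A.1 1 0 ∧ A⁻¹.1 1 1 = A.1 0 0 := by
  rw [Matrix.SpecialLinearGroup.coe_inv, Matrix.adjugate_fin_two]
  simp

theorem one_ent : (1 : SL2).1 0 0 = 1 ∧ (1 : SL2).1 0 1 = 0 ∧ (1 : SL2).1 1 0 = 0 ∧
    (1 : SL2).1 1 1 = 1 := by
  simp

theorem comm_ent {A B : SL2} : Commute A B ↔
    A.1 0 1 * B.1 1 0 = B.1 0 1 * A.1 1 0 ∧
    (A.1 0 0 - A.1 1 1) * B.1 0 1 = (B.1 0 0 - B.1 1 1) * A.1 0 1 ∧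
    (A.1 0 0 - A.1 1 1) * B.1 1 0 = (B.1 0 0 - B.1 1 1) * A.1 1 0 := by
  rw [commute_iff_eq, ext_iff']
  simp only [mul_ent]
  constructor
  · rintro ⟨h1, h2, h3, h4⟩
    refine ⟨?_, ?_, ?_⟩
    · linear_combination h1
    · linear_combination h2
    · linear_combination -h3
  · rintro ⟨h1, h2, h3⟩
    refine ⟨?_, ?_, ?_, ?_⟩
    · linear_combination h1
    · linear_combination h2
    · linear_combination -h3
    · linear_combination -h1

section

variable [CharP F 2]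

theorem sq_eq_one_iff {A : SL2} : A ^ 2 = 1 ↔ A.1 0 0 = A.1 1 1 := by
  have hd := det_ent A
  have h2 : ∀ x : F, x + x = 0 := CharTwo.add_self_eq_zero
  rw [pow_two, ext_iff']
  simp only [mul_ent, one_ent.1, one_ent.2.1, one_ent.2.2.1, one_ent.2.2.2]
  constructor
  · rintro ⟨h1, h3, h4, h5⟩
    by_contra hne
    have hne' : A.1 0 0 + A.1 1 1 ≠ 0 := by
      intro hc
      apply hne
      have h6 := h2 (A.1 1 1)
      linear_combination hc - h6
    have hb : A.1 0 1 = 0 := by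
      have : A.1 0 1 * (A.1 0 0 + A.1 1 1) = 0 := by linear_combination h3
      exact (mul_eq_zero.1 this).resolve_right hne'
    have hc : A.1 1 0 = 0 := by
      have : A.1 1 0 * (A.1 0 0 + A.1 1 1) = 0 := by linear_combination h4
      exact (mul_eq_zero.1 this).resolve_right hne'
    rw [hb, hc] at h1 h5 hd
    have h6 : A.1 0 0 * (A.1 0 0 - A.1 1 1) = 0 := by linear_combination h1 - hd
    rcases mul_eq_zero.1 h6 with h7 | h7
    · rw [h7] at hd
      norm_num at hd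
    · exact hne (sub_eq_zero.1 h7)
  · intro h
    have h3 := h2 (A.1 0 1 * A.1 1 0)
    have h4 := h2 (A.1 0 0 * A.1 0 1)
    have h5 := h2 (A.1 1 0 * A.1 0 0)
    rw [← h] at hd ⊢
    refine ⟨?_, ?_, ?_, ?_⟩
    · linear_combination hd + h3
    · linear_combination h4
    · linear_combination h5
    · linear_combination hd + h3

theorem invCent : InvCent SL2 := by
  intro t ht1 ht2 c hc
  by_cases hc1 : c = 1
  · rw [hc1, one_pow]
  rw [sq_eq_one_iff]
  rw [sq_eq_one_iff] at ht2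
  have hd := det_ent t
  obtain ⟨h1, h2, h3⟩ := comm_ent.1 hc
  rw [ht2, sub_self, zero_mul] at h2 h3
  by_contra hne
  have hne' : c.1 0 0 - c.1 1 1 ≠ 0 := sub_ne_zero.2 hne
  have hb : t.1 0 1 = 0 := (mul_eq_zero.1 h2).resolve_left hne'
  have hcc : t.1 1 0 = 0 := (mul_eq_zero.1 h3).resolve_left hne'
  apply ht1
  rw [hb, hcc, ht2] at hd
  have h4 : (t.1 1 1 - 1) * (t.1 1 1 - 1) = 0 := by
    have h5 : (t.1 1 1) + (t.1 1 1) = 0 := CharTwo.add_self_eq_zero _
    have h6 : (1 : F) + 1 = 0 := CharTwo.add_self_eq_zero _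
    linear_combination hd - h5 + h6
  have h5 : t.1 1 1 = 1 := by
    rcases mul_eq_zero.1 h4 with h | h <;> exact sub_eq_zero.1 h
  rw [ext_iff']
  simp only [one_ent.1, one_ent.2.1, one_ent.2.2.1, one_ent.2.2.2]
  exact ⟨ht2.trans h5, hb, hcc, h5⟩

theorem inverting : Inverting SL2 := by
  intro g hg
  have h2 : ∀ x : F, x + x = 0 := CharTwo.add_self_eq_zero
  have hg1 : g ≠ 1 := by
    rintro rfl
    exact hg (one_pow 2)
  have htr : g.1 0 0 ≠ g.1 1 1 := fun hc => hg (sq_eq_one_iff.2 hc)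
  have htr' : g.1 0 0 - g.1 1 1 ≠ 0 := sub_ne_zero.2 htr
  have htr2 : g.1 0 0 + g.1 1 1 ≠ 0 := by
    intro hc
    apply htr
    linear_combination hc - h2 (g.1 1 1)
  refine ⟨?_, ?_⟩
  · intro a b ha hb
    obtain ⟨ha1, ha2, ha3⟩ := comm_ent.1 ha
    obtain ⟨hb1, hb2, hb3⟩ := comm_ent.1 hb
    rw [comm_ent]
    refine ⟨?_, ?_, ?_⟩
    · apply mul_right_cancel₀ (mul_ne_zero htr' htr')
      linear_combination (b.1 1 0 * (g.1 0 0 - g.1 1 1)) * (-ha2) +
        ((a.1 0 0 - a.1 1 1) * g.1 0 1) * (-hb3) +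
        (a.1 1 0 * (g.1 0 0 - g.1 1 1)) * hb2 + ((b.1 0 0 - b.1 1 1) * g.1 0 1) * ha3
    · apply mul_right_cancel₀ htr'
      linear_combination (a.1 0 0 - a.1 1 1) * (-hb2) + (b.1 0 0 - b.1 1 1) * ha2
    · apply mul_right_cancel₀ htr'
      linear_combination (a.1 0 0 - a.1 1 1) * (-hb3) + (b.1 0 0 - b.1 1 1) * ha3
  · intro h hh
    -- the trace of the conjugate
    have ht : (h * g * h⁻¹).1 0 0 + (h * g * h⁻¹).1 1 1 = g.1 0 0 + g.1 1 1 := by
      have hd := det_ent h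
      simp only [mul_ent, (inv_ent h).1, (inv_ent h).2.1, (inv_ent h).2.2.1, (inv_ent h).2.2.2]
      linear_combination (g.1 0 0 + g.1 1 1) * hd
    have hd1 := det_ent g
    have hd2 := det_ent (h * g * h⁻¹)
    set k := h * g * h⁻¹ with hk
    clear_value k
    obtain ⟨h3, h4, h5⟩ := comm_ent.1 hh
    have e1 : k.1 0 0 - k.1 1 1 = g.1 0 0 - g.1 1 1 := by
      linear_combination ht - h2 (k.1 1 1) + h2 (g.1 1 1)
    have e2 : k.1 0 1 = g.1 0 1 := by
      apply mul_left_cancel₀ htr'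
      rw [e1] at h4
      exact h4.symm
    have e3 : k.1 1 0 = g.1 1 0 := by
      apply mul_left_cancel₀ htr'
      rw [e1] at h5
      exact h5.symm
    have e4 : (k.1 0 0 + g.1 0 0) * (k.1 0 0 + g.1 1 1) = 0 := by
      rw [e2, e3] at hd2
      have h6 := h2 (k.1 0 0 * k.1 0 0)
      have h7 := h2 (k.1 0 0 * k.1 1 1)
      linear_combination hd1 - hd2 + h6 + h7 - k.1 0 0 * ht
    rcases mul_eq_zero.1 e4 with h6 | h6
    · left
      rw [ext_iff']
      have e5 : k.1 0 0 = g.1 0 0 := by linear_combination h6 - h2 (g.1 0 0)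
      refine ⟨e5, e2, e3, ?_⟩
      linear_combination ht - e5
    · right
      rw [ext_iff', (inv_ent g).1, (inv_ent g).2.1, (inv_ent g).2.2.1, (inv_ent g).2.2.2]
      have e5 : k.1 0 0 = g.1 1 1 := by linear_combination h6 - h2 (g.1 1 1)
      refine ⟨e5, ?_, ?_, ?_⟩
      · linear_combination e2 + h2 (g.1 0 1)
      · linear_combination e3 + h2 (g.1 1 0)
      · linear_combination ht - e5

/-- the upper unitriangular matrix -/
def up (b : F) : SL2 := ⟨!![1, b; 0, 1], by simp⟩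

/-- the lower unitriangular matrix -/
def lo (b : F) : SL2 := ⟨!![1, 0; b, 1], by simp⟩

theorem up_ent (b : F) : (up b).1 0 0 = 1 ∧ (up b).1 0 1 = b ∧ (up b).1 1 0 = 0 ∧
    (up b).1 1 1 = 1 := by
  simp [up]

theorem lo_ent (b : F) : (lo b).1 0 0 = 1 ∧ (lo b).1 0 1 = 0 ∧ (lo b).1 1 0 = b ∧
    (lo b).1 1 1 = 1 := by
  simp [lo]

theorem commute_up_iff {g : SL2} : Commute g (up 1) ↔ ∃ b, g = up b := by
  have h2 : ∀ x : F, x + x = 0 := CharTwo.add_self_eq_zero
  rw [comm_ent]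
  simp only [(up_ent (1 : F)).1, (up_ent (1 : F)).2.1, (up_ent (1 : F)).2.2.1,
    (up_ent (1 : F)).2.2.2]
  constructor
  · rintro ⟨h3, h4, -⟩
    have hd := det_ent g
    have h10 : g.1 1 0 = 0 := by linear_combination -h3
    have h00 : g.1 0 0 = g.1 1 1 := by linear_combination h4
    rw [h10, h00] at hd
    have h5 : (g.1 1 1 - 1) * (g.1 1 1 - 1) = 0 := by
      linear_combination hd - h2 (g.1 1 1) + h2 1
    have h11 : g.1 1 1 = 1 := by
      rcases mul_eq_zero.1 h5 with h | h <;> exact sub_eq_zero.1 h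
    refine ⟨g.1 0 1, ?_⟩
    rw [ext_iff', (up_ent _).1, (up_ent _).2.1, (up_ent _).2.2.1, (up_ent _).2.2.2]
    exact ⟨h00.trans h11, rfl, h10, h11⟩
  · rintro ⟨b, rfl⟩
    rw [(up_ent _).1, (up_ent _).2.1, (up_ent _).2.2.1, (up_ent _).2.2.2]
    simp

theorem up_injective : Function.Injective (up : F → SL2) := by
  intro a b hab
  have := congrArg (fun g : SL2 => g.1 0 1) hab
  simpa [up] using this

theorem up_ne_one : (up 1 : SL2) ≠ 1 := by
  intro hc
  have := congrArg (fun g : SL2 => g.1 0 1) hc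
  simp [up] at this

theorem lo_ne_one : (lo 1 : SL2) ≠ 1 := by
  intro hc
  have := congrArg (fun g : SL2 => g.1 1 0) hc
  simp [lo] at this

theorem up_sq : (up 1 : SL2) ^ 2 = 1 := by
  rw [sq_eq_one_iff]
  simp [up]

theorem lo_sq : (lo 1 : SL2) ^ 2 = 1 := by
  rw [sq_eq_one_iff]
  simp [lo]

theorem not_commute_lo_up : ¬ Commute (lo 1 : SL2) (up 1) := by
  rw [commute_up_iff]
  rintro ⟨b, hb⟩
  have := congrArg (fun g : SL2 => g.1 1 0) hb
  simp [lo, up] at this

variable [Finite F]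

theorem card_sylow (S : Sylow 2 SL2) : Nat.card S = Nat.card F := by
  haveI : Fact (Nat.Prime 2) := ⟨Nat.prime_two⟩
  have hpz : IsPGroup 2 (Subgroup.zpowers (up 1 : SL2)) := by
    rintro ⟨_, ⟨n, rfl⟩⟩
    refine ⟨1, Subtype.ext ?_⟩
    change ((up 1 : SL2) ^ n) ^ 2 ^ 1 = 1
    rw [← zpow_natCast, ← _root_.zpow_mul, mul_comm, _root_.zpow_mul, zpow_natCast, pow_one, up_sq, one_zpow]
  obtain ⟨T, hT⟩ := hpz.exists_le_sylow
  have hup : (up 1 : SL2) ∈ (T : Subgroup SL2) := hT (Subgroup.mem_zpowers _)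
  have e1 : Nat.card S = Nat.card T := Nat.card_congr (S.equiv T).toEquiv
  rw [e1]
  symm
  apply Nat.card_congr
  refine Equiv.ofBijective (fun b : F => (⟨up b, ?_⟩ : T)) ⟨?_, ?_⟩
  · change up b ∈ (T : Subgroup SL2)
    rw [invCent.mem_sylow_iff T hup up_ne_one up_sq]
    exact commute_up_iff.2 ⟨b, rfl⟩
  · intro a b hab
    exact up_injective (congrArg Subtype.val hab)
  · rintro ⟨g, hg⟩
    have hg' : g ∈ (T : Subgroup SL2) := hg
    rw [invCent.mem_sylow_iff T hup up_ne_one up_sq] at hg'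
    obtain ⟨b, hb⟩ := commute_up_iff.1 hg'
    exact ⟨b, Subtype.ext hb.symm⟩

theorem card_normalizer (h4 : 4 ≤ Nat.card F) (S : Sylow 2 SL2) :
    Nat.card (Subgroup.normalizer ((S : Subgroup SL2) : Set SL2)) =
      Nat.card F * (Nat.card F - 1) := by
  haveI : Fact (Nat.Prime 2) := ⟨Nat.prime_two⟩
  have hcard := card_sylow S
  have hcard' : Nat.card (S : Subgroup SL2) = Nat.card F := hcard
  have hSb : (S : Subgroup SL2) ≠ ⊥ := by
    intro hc
    rw [hc, Subgroup.card_bot] at hcard'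
    omega
  obtain ⟨t, ht, ht1, ht2, -⟩ := exists_involution_of_isPGroup S.2 hSb
  have hmem := invCent.mem_sylow_iff S ht ht1 ht2
  -- an involution outside the normalizer
  have hinN : ∀ u : SL2, u ^ 2 = 1 → u ∈ Subgroup.normalizer ((S : Subgroup SL2) : Set SL2) →
      u ∈ (S : Subgroup SL2) := by
    intro u hu huN
    have hpz : IsPGroup 2 (Subgroup.zpowers u) := by
      rintro ⟨_, ⟨n, rfl⟩⟩
      refine ⟨1, Subtype.ext ?_⟩
      change (u ^ n) ^ 2 ^ 1 = 1
      rw [← zpow_natCast, ← _root_.zpow_mul, mul_comm, _root_.zpow_mul, zpow_natCast, pow_one, hu, one_zpow]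
    have hle : Subgroup.zpowers u ≤ Subgroup.normalizer ((S : Subgroup SL2) : Set SL2) := by
      rw [Subgroup.zpowers_le]; exact huN
    have hsup : IsPGroup 2 (Subgroup.zpowers u ⊔ (S : Subgroup SL2) : Subgroup SL2) :=
      hpz.to_sup_of_normal_right' S.2 hle
    have h9 := S.3 hsup le_sup_right
    rw [← h9]
    exact Subgroup.mem_sup_left (Subgroup.mem_zpowers u)
  obtain ⟨u, hu1, hu2, huN⟩ : ∃ u : SL2, u ≠ 1 ∧ u ^ 2 = 1 ∧
      u ∉ Subgroup.normalizer ((S : Subgroup SL2) : Set SL2) := by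
    by_contra hcon
    push Not at hcon
    have h5 := hinN _ up_sq (hcon _ up_ne_one up_sq)
    have h6 := hinN _ lo_sq (hcon _ lo_ne_one lo_sq)
    rw [invCent.mem_sylow_iff S h5 up_ne_one up_sq] at h6
    exact not_commute_lo_up h6
  have hcomm : ∀ t : SL2, orderOf t = 2 → IsMulCommutative (Subgroup.centralizer ({t} : Set SL2)) ∧
      ∀ c ∈ Subgroup.centralizer ({t} : Set SL2), c ^ 2 = 1 := by
    intro t ht
    have ht1 : t ≠ 1 := by
      rintro rfl
      rw [orderOf_one] at ht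
      omega
    have ht2 : t ^ 2 = 1 := orderOf_dvd_iff_pow_eq_one.1 ht.dvd
    refine ⟨⟨⟨fun a b => Subtype.ext ?_⟩⟩, ?_⟩
    · exact invCent.comm ht1 ht2 (Subgroup.mem_centralizer_singleton_iff.1 a.2)
        (Subgroup.mem_centralizer_singleton_iff.1 b.2)
    · intro c hc
      exact invCent t ht1 ht2 c (Subgroup.mem_centralizer_singleton_iff.1 hc)
  have hnc : ¬ IsCyclic (S : Subgroup SL2) := by
    intro hc
    obtain ⟨g, hg⟩ := hc.exists_ofOrder_eq_natCard
    have h5 : orderOf g ∣ 2 := by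
      apply orderOf_dvd_of_pow_eq_one
      apply Subtype.ext
      exact invCent t ht1 ht2 g ((hmem g).1 g.2)
    rw [hg, hcard'] at h5
    have := Nat.le_of_dvd two_pos h5
    omega
  have hnn : ¬ (S : Subgroup SL2).Normal := by
    intro hc
    apply huN
    rw [Subgroup.normalizer_eq_top]
    exact Subgroup.mem_top _
  have huo : orderOf u = 2 := orderOf_eq_prime hu2 hu1
  have := (Cfsg.Agent.S1227.result S hnc hnn hcomm u huo huN).2.1
  rw [this, hcard]

/-- `SL₂(2^n)`, `2^n - 1` prime: all non-abelian subgroups are self-normalizing. -/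
theorem selfNorm (h4 : 4 ≤ Nat.card F) (hr : (Nat.card F - 1).Prime) : SelfNorm SL2 := by
  apply selfNorm_of invCent inverting hr (by omega)
  intro S
  have h1 : Nat.card F - 1 + 1 = Nat.card F := by omega
  rw [h1]
  exact ⟨card_sylow S, card_normalizer h4 S⟩

end

end Cfsg.Agent.H511.SL2Even
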