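import Mathlib
import Cfsg.Agent.Lib.AutSL2Out

/-!
# The outer automorphism group of `PSL(2,p)` has order at most 2
-/

set_option autoImplicit false

namespace Cfsg.Agent.H511.AC

open Matrix Cfsg.Agent.Lib.SL2Mat Cfsg.Agent.Lib.AutSL2 Cfsg.Agent.Lib.AutSL2Out

theorem isSquare_mul_of_not {F : Type*} [Field F] [Finite F] {a b : F} (ha : ¬ IsSquare a) (hb : ¬ IsSquare b) :
    IsSquare (a * b) := by
  have := Fintype.ofFinite F
  have ha0 : a ≠ 0 := by rintro rfl; exact ha ⟨0, by rw [mul_zero]⟩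
  have hb0 : b ≠ 0 := by rintro rfl; exact hb ⟨0, by rw [mul_zero]⟩
  by_cases h2 : ringChar F = 2
  · exact FiniteField.isSquare_of_char_two h2 _
  · rw [FiniteField.isSquare_iff h2 (mul_ne_zero ha0 hb0), mul_pow]
    rw [FiniteField.isSquare_iff h2 ha0] at ha
    rw [FiniteField.isSquare_iff h2 hb0] at hb
    rw [(FiniteField.pow_dichotomy h2 ha0).resolve_left ha, (FiniteField.pow_dichotomy h2 hb0).resolve_left hb]
    ring

/-- a subgroup such that the product of two elements outside lies inside -/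
theorem index_dvd_two_of_mul_mem {G : Type*} [Group G] (H : Subgroup G)
    (h : ∀ a b, a ∉ H → b ∉ H → a * b ∈ H) : H.index ∣ 2 := by
  by_cases ht : H = ⊤
  · rw [ht, Subgroup.index_top]
    exact one_dvd 2
  · have h1 : ∃ a, a ∉ H := by
      by_contra hc
      push Not at hc
      exact ht (Subgroup.eq_top_iff' H |>.2 hc)
    obtain ⟨a, ha⟩ := h1
    have h2 : H.index = 2 := by
      rw [Subgroup.index_eq_two_iff]
      refine ⟨a, fun b => ?_⟩
      by_cases hb : b ∈ H
      · right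
        exact ⟨hb, fun hc => ha ((H.mul_mem_cancel_left hb).1 hc)⟩
      · left
        exact ⟨h b a hb ha, hb⟩
    rw [h2]

/-- `|Out(G)| ∣ 2` for a central quotient `G` of `SL(2,p)` -/
theorem index_inner_dvd_two {p : ℕ} [Fact p.Prime] {G : Type*} [Group G]
    (π : Matrix.SpecialLinearGroup (Fin 2) (ZMod p) →* G) (hπ : Function.Surjective π)
    (hk : π.ker ≤ Subgroup.center (Matrix.SpecialLinearGroup (Fin 2) (ZMod p))) :
    (MulAut.conj : G →* MulAut G).range.index ∣ 2 := by
  apply index_dvd_two_of_mul_mem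
  have key : ∀ α : MulAut G, ∃ g : GL (Fin 2) (ZMod p), ∀ x, α (π x) = π (conjGL g x) := by
    intro α
    obtain ⟨g, σ, h⟩ := exists_gl_ringEquiv π hπ hk α
    have hσ : σ = RingEquiv.refl _ := Subsingleton.elim _ _
    subst hσ
    refine ⟨g, fun x => ?_⟩
    rw [h x]
    congr 2
  have key2 : ∀ (α : MulAut G) (g : GL (Fin 2) (ZMod p)), (∀ x, α (π x) = π (conjGL g x)) →
      IsSquare g.1.det → α ∈ (MulAut.conj : G →* MulAut G).range := by
    intro α g hg hsq
    obtain ⟨d, hd⟩ := hsq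
    have hdet : g.1.det ≠ 0 := (Matrix.GeneralLinearGroup.det g).ne_zero
    have hd0 : d ≠ 0 := by
      rintro rfl
      rw [mul_zero] at hd
      exact hdet hd
    obtain ⟨s, hs⟩ := conjGL_of_det_sq g d hd0 (by rw [hd, pow_two])
    refine ⟨π s, ?_⟩
    apply MulEquiv.ext
    intro y
    obtain ⟨x, rfl⟩ := hπ y
    rw [hg x, hs x, MulAut.conj_apply, map_mul, map_mul, map_inv]
  intro α β hα hβ
  obtain ⟨g, hg⟩ := key α
  obtain ⟨k, hk'⟩ := key β
  refine key2 (α * β) (g * k) ?_ ?_
  · intro x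
    rw [MulAut.mul_apply, hk' x, hg, map_mul, MulAut.mul_apply]
  · have h1 : ((g * k : GL (Fin 2) (ZMod p)).1).det = g.1.det * k.1.det := by
      rw [Units.val_mul, Matrix.det_mul]
    rw [h1]
    exact isSquare_mul_of_not (fun h => hα (key2 α g hg h)) (fun h => hβ (key2 β k hk' h))

/-- `|Out(G)| ∣ 2` for `G ≅ PSL(2,p)` -/
theorem index_inner_psl {p : ℕ} [Fact p.Prime] {G : Type*} [Group G]
    (e : G ≃* Matrix.ProjectiveSpecialLinearGroup (Fin 2) (ZMod p)) :
    (MulAut.conj : G →* MulAut G).range.index ∣ 2 := by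
  let π : Matrix.SpecialLinearGroup (Fin 2) (ZMod p) →* G :=
    e.symm.toMonoidHom.comp (QuotientGroup.mk' (Subgroup.center (Matrix.SpecialLinearGroup (Fin 2) (ZMod p))))
  refine index_inner_dvd_two π (e.symm.surjective.comp (QuotientGroup.mk'_surjective _)) ?_
  intro x hx
  have h1 : e.symm (QuotientGroup.mk' (Subgroup.center (Matrix.SpecialLinearGroup (Fin 2) (ZMod p))) x) = 1 := hx
  rw [map_eq_one_iff _ e.symm.injective] at h1
  exact (QuotientGroup.eq_one_iff x).1 h1

end Cfsg.Agent.H511.AC
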