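import Mathlib
import Cfsg.Agent.H511.AlmostCyc
import Cfsg.Agent.CharactersDeep.QuatSylow
import Cfsg.Agent.SmallSimple.Burnside
import Cfsg.Agent.OddCyclic.CoverTrans

/-!
# The product decomposition of a group in the class `PP` with a simple quotient by a solvable normal subgroup
-/

set_option autoImplicit false
set_option linter.style.haveILetI false

namespace Cfsg.Agent.H511.AC

open Subgroup
open Cfsg.Agent.OddCyclic.T1Defs (OddCyc)
open scoped commutatorElement

universe u

/-- the derived subgroup centralises every cyclic normal subgroup -/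
theorem commutator_le_centralizer_of_cyclic {N : Type*} [Group N] (Z : Subgroup N) [Z.Normal] (hZ : IsCyclic Z) :
    commutator N ≤ centralizer (Z : Set N) := by
  have hcomm : ∀ a b : MulAut Z, a * b = b * a := by
    intro a b
    apply (IsCyclic.mulAutMulEquiv Z).injective
    rw [map_mul, map_mul, mul_comm]
  rw [_root_.commutator_def, commutator_le]
  intro a _ b _
  have h1 : (MulAut.conjNormal : N →* MulAut Z) ⁅a, b⁆ = 1 := by
    rw [map_commutatorElement, commutatorElement_eq_one_iff_mul_comm]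
    exact hcomm _ _
  rw [mem_centralizer_iff]
  intro x hx
  have h2 := congrArg (fun f : MulAut Z => ((f ⟨x, hx⟩ : Z) : N)) h1
  have h3 : ⁅a, b⁆ * x * ⁅a, b⁆⁻¹ = x := h2
  calc x * ⁅a, b⁆ = (⁅a, b⁆ * x * ⁅a, b⁆⁻¹) * ⁅a, b⁆ := by rw [h3]
    _ = ⁅a, b⁆ * x := by group

/-- a perfect normal subgroup centralises every normal Z-subgroup -/
theorem commutator_eq_bot_of_isZGroup {N : Type*} [Group N] [Finite N] (R L : Subgroup N) [R.Normal] [L.Normal]
    (hR : IsZGroup R) (hL : ⁅L, L⁆ = L) : ⁅L, R⁆ = ⊥ := by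
  set R₁ : Subgroup N := (commutator R).map R.subtype with hR₁
  have hR₁n : R₁.Normal := by
    rw [hR₁, map_subtype_commutator]
    infer_instance
  have hcyc1 : IsCyclic R₁ := by
    have : IsCyclic (commutator R) := IsZGroup.isCyclic_commutator R
    exact isCyclic_of_surjective (R.subtype.subgroupMap (commutator R)) (R.subtype.subgroupMap_surjective _)
  have hLc : L ≤ commutator N := by
    rw [← hL, _root_.commutator_def]
    exact commutator_mono le_top le_top
  have h1 : ⁅L, R₁⁆ = ⊥ := by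
    rw [commutator_eq_bot_iff_le_centralizer]
    exact hLc.trans (commutator_le_centralizer_of_cyclic R₁ hcyc1)
  -- the quotient
  set π : N →* N ⧸ R₁ := QuotientGroup.mk' R₁ with hπ
  have hRn : (R.map π).Normal := Normal.map inferInstance π (QuotientGroup.mk'_surjective R₁)
  have hcyc2 : IsCyclic (R.map π) := by
    let f : R ⧸ commutator R →* R.map π := QuotientGroup.lift (commutator R) (π.subgroupMap R) (by
      intro x hx
      rw [MonoidHom.mem_ker]
      apply Subtype.ext
      show π x = 1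
      rw [hπ, QuotientGroup.mk'_apply, QuotientGroup.eq_one_iff, hR₁]
      exact ⟨x, hx, rfl⟩)
    have hf : Function.Surjective f := by
      intro y
      obtain ⟨x, hx⟩ := π.subgroupMap_surjective R y
      exact ⟨QuotientGroup.mk x, hx⟩
    have : IsCyclic (R ⧸ commutator R) := (inferInstance : IsCyclic (Abelianization R))
    exact isCyclic_of_surjective f hf
  have h2 : ⁅L, R⁆ ≤ R₁ := by
    rw [commutator_le]
    intro l hl r hr
    have h3 : π l ∈ commutator (N ⧸ R₁) := by
      have h4 : (commutator N).map π ≤ commutator (N ⧸ R₁) := by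
        rw [_root_.commutator_def, _root_.commutator_def, map_commutator]
        exact commutator_mono le_top le_top
      exact h4 ⟨l, hLc hl, rfl⟩
    have h5 := commutator_le_centralizer_of_cyclic (R.map π) hcyc2 h3
    have h6 := mem_centralizer_iff.1 h5 (π r) ⟨r, hr, rfl⟩
    have h7 : π ⁅l, r⁆ = 1 := by
      rw [map_commutatorElement, commutatorElement_eq_one_iff_mul_comm]
      exact h6.symm
    rwa [hπ, QuotientGroup.mk'_apply, QuotientGroup.eq_one_iff] at h7
  have h3 : ⁅⁅L, R⁆, L⁆ = ⊥ := by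
    rw [eq_bot_iff, ← h1, commutator_comm L R₁]
    exact commutator_mono h2 le_rfl
  have h4 : ⁅⁅R, L⁆, L⁆ = ⊥ := by rw [commutator_comm R L]; exact h3
  have h5 := commutator_commutator_eq_bot_of_rotate h3 h4
  rwa [hL] at h5

/-- `P ⊓ R` is cyclic -/
theorem inf_cyclic {N : Type u} [Group N] [Finite N] (h : PP N) (R : Subgroup N) [R.Normal]
    (hnc : ∀ P : Sylow 2 (N ⧸ R), ¬ IsCyclic P) (P : Sylow 2 N) :
    ∃ C : Subgroup P, IsCyclic C ∧ C.index ∣ 2 ∧ (P : Subgroup N) ⊓ R ≤ C.map (P : Subgroup N).subtype := by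
  obtain ⟨C, hC, hi⟩ := h.two P
  refine ⟨C, hC, hi, ?_⟩
  by_contra hnle
  rw [SetLike.not_le_iff_exists] at hnle
  obtain ⟨t, ⟨htP, htR⟩, htC⟩ := hnle
  have htC' : (⟨t, htP⟩ : (P : Subgroup N)) ∉ C := fun hc => htC ⟨_, hc, rfl⟩
  have hi2 : C.index = 2 := by
    rcases (Nat.dvd_prime Nat.prime_two).1 hi with h1 | h1
    · exfalso
      rw [index_eq_one] at h1
      rw [h1] at htC'
      exact htC' (mem_top _)
    · exact h1
  set π : N →* N ⧸ R := QuotientGroup.mk' R with hπ
  have hs : Function.Surjective π := QuotientGroup.mk'_surjective R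
  apply hnc (P.mapSurjective hs)
  -- the map `C → π(P)` is surjective
  let f : C →* ((P : Subgroup N).map π : Subgroup (N ⧸ R)) := (π.subgroupMap (P : Subgroup N)).comp C.subtype
  have hf : Function.Surjective f := by
    rintro ⟨_, x, hx, rfl⟩
    by_cases hxC : (⟨x, hx⟩ : (P : Subgroup N)) ∈ C
    · exact ⟨⟨_, hxC⟩, rfl⟩
    · have h1 : (⟨x, hx⟩ : (P : Subgroup N)) * ⟨t, htP⟩ ∈ C := by
        rw [mul_mem_iff_of_index_two hi2]
        exact ⟨fun h => absurd h hxC, fun h => absurd h htC'⟩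
      refine ⟨⟨_, h1⟩, Subtype.ext ?_⟩
      show π (x * t) = π x
      rw [map_mul, (show π t = 1 from (QuotientGroup.eq_one_iff t).2 htR), mul_one]
  exact isCyclic_of_surjective f hf

/-- the kernel is a Z-group -/
theorem isZGroup_of_quot {N : Type u} [Group N] [Finite N] (h : PP N) (R : Subgroup N) [R.Normal]
    (hnc : ∀ P : Sylow 2 (N ⧸ R), ¬ IsCyclic P) : IsZGroup R := by
  refine ⟨?_⟩
  intro p hp Q
  by_cases hp2 : p = 2
  · subst hp2
    have h1 : IsPGroup 2 ((Q : Subgroup R).map R.subtype) := Q.2.map _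
    obtain ⟨P, hP⟩ := h1.exists_le_sylow
    obtain ⟨C, hC, hi, hle⟩ := inf_cyclic h R hnc P
    have h2 : (Q : Subgroup R).map R.subtype ≤ C.map (P : Subgroup N).subtype :=
      (le_inf hP (map_subtype_le _)).trans hle
    have h3 : IsCyclic (C.map (P : Subgroup N).subtype) :=
      isCyclic_of_surjective ((P : Subgroup N).subtype.subgroupMap C) (MonoidHom.subgroupMap_surjective _ _)
    refine isCyclic_of_injective ((inclusion h2).comp (R.subtype.subgroupMap (Q : Subgroup R))) ?_
    intro a b hab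
    have h4 := congrArg (fun x : (C.map (P : Subgroup N).subtype : Subgroup N) => (x : N)) hab
    exact Subtype.ext (Subtype.ext h4)
  · exact (h.subgroup R).odd p Q hp hp2

theorem not_cyclic_of_simple {S : Type*} [Group S] [Finite S] [IsSimpleGroup S] (h4 : 4 ∣ Nat.card S)
    (P : Sylow 2 S) : ¬ IsCyclic P := by
  intro hP
  have hmin : (Nat.card S).minFac = 2 := by
    rw [Nat.minFac_eq_two_iff]
    exact (by norm_num : (2 : ℕ) ∣ 4).trans h4
  have h1 := Cfsg.Agent.SmallSimple.Burnside.card_eq_of_isCyclic_minFac hmin P hP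
  rw [h1] at h4
  exact absurd (Nat.le_of_dvd (by norm_num) h4) (by norm_num)

/-- **The product decomposition.** -/
theorem exists_prod {N : Type u} [Group N] [Finite N] (h : PP N) (R : Subgroup N) [R.Normal]
    [hs : IsSimpleGroup (N ⧸ R)] (hns : ¬ Group.IsSolvable (N ⧸ R)) (h4 : 4 ∣ Nat.card (N ⧸ R)) :
    ∃ X L : Subgroup N, X.Normal ∧ L.Normal ∧ X ⊓ L = ⊥ ∧ X ⊔ L = ⊤ ∧ (Nat.card X).Coprime (Nat.card L) ∧
      Odd (Nat.card X) ∧ IsZGroup X ∧ commutator L = ⊤ ∧ IsPGroup 2 (center L) ∧
      Nonempty (L ⧸ center L ≃* N ⧸ R) := by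
  have hnc : ∀ P : Sylow 2 (N ⧸ R), ¬ IsCyclic P := not_cyclic_of_simple h4
  have hZR := isZGroup_of_quot h R hnc
  set π : N →* N ⧸ R := QuotientGroup.mk' R with hπ
  have hπs : Function.Surjective π := QuotientGroup.mk'_surjective R
  have hπ1 : ∀ x, π x = 1 ↔ x ∈ R := fun x => QuotientGroup.eq_one_iff x
  have hperfS : commutator (N ⧸ R) = ⊤ := by
    rcases Normal.eq_bot_or_eq_top (H := commutator (N ⧸ R)) inferInstance with h1 | h1
    · exfalso
      apply hns
      apply Group.isSolvable_of_comm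
      intro a b
      have h2 : ⁅a, b⁆ ∈ commutator (N ⧸ R) := commutator_mem_commutator (mem_top _) (mem_top _)
      rwa [h1, mem_bot, commutatorElement_eq_one_iff_mul_comm] at h2
    · exact h1
  have hcenS : center (N ⧸ R) = ⊥ := by
    rcases Normal.eq_bot_or_eq_top (H := center (N ⧸ R)) inferInstance with h1 | h1
    · exact h1
    · exfalso
      apply hns
      apply Group.isSolvable_of_comm
      intro a b
      have h2 : b ∈ center (N ⧸ R) := by rw [h1]; exact mem_top _
      exact mem_center_iff.1 h2 a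
  -- a minimal normal subgroup covering the quotient
  obtain ⟨L, hL⟩ := (Set.toFinite {L : Subgroup N | L.Normal ∧ L.map π = ⊤}).exists_minimal
    ⟨⊤, inferInstance, by rw [← MonoidHom.range_eq_map, MonoidHom.range_eq_top.2 hπs]⟩
  have hLn : L.Normal := hL.prop.1
  have hLmap : L.map π = ⊤ := hL.prop.2
  have hLperf : ⁅L, L⁆ = L := by
    have h1 : ⁅L, L⁆ ≤ L := commutator_le_left L L
    refine le_antisymm h1 (hL.le_of_le ⟨inferInstance, ?_⟩ h1)
    rw [map_commutator, hLmap, ← _root_.commutator_def]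
    exact hperfS
  have hLR : ⁅L, R⁆ = ⊥ := commutator_eq_bot_of_isZGroup R L hZR hLperf
  have hcomm : ∀ l ∈ L, ∀ r ∈ R, l * r = r * l := by
    intro l hl r hr
    have h1 : ⁅l, r⁆ ∈ ⁅L, R⁆ := commutator_mem_commutator hl hr
    rwa [hLR, mem_bot, commutatorElement_eq_one_iff_mul_comm] at h1
  -- the map `L → N/R`
  set f : L →* N ⧸ R := π.comp L.subtype with hf
  have hfs : Function.Surjective f := by
    intro y
    have h1 : y ∈ L.map π := by rw [hLmap]; exact mem_top _
    obtain ⟨x, hx, hxy⟩ := h1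
    exact ⟨⟨x, hx⟩, hxy⟩
  have hfk : f.ker = center L := by
    ext z
    constructor
    · intro hz
      have h1 : (z : N) ∈ R := (hπ1 _).1 hz
      rw [mem_center_iff]
      intro l
      exact Subtype.ext (hcomm l l.2 z h1)
    · intro hz
      rw [MonoidHom.mem_ker, ← mem_bot, ← hcenS, mem_center_iff]
      intro y
      obtain ⟨l, rfl⟩ := hfs y
      rw [← map_mul, mem_center_iff.1 hz l, map_mul]
  have hLperf' : commutator L = ⊤ := by
    have h1 : (commutator L).map L.subtype = (⊤ : Subgroup L).map L.subtype := by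
      rw [map_subtype_commutator, hLperf, ← MonoidHom.range_eq_map, range_subtype]
    exact map_injective L.subtype_injective h1
  have hcen2 : IsPGroup 2 (center L) := by
    have h1 : ∀ {d : ℕ}, d.Prime → d ∣ Nat.card (center L) → d = 2 := by
      intro r hr hd
      by_contra hr2
      have : Fact r.Prime := ⟨hr⟩
      obtain ⟨z, hz⟩ := exists_prime_orderOf_dvd_card' r hd
      have P : Sylow r L := default
      have h2 : (z : L) ^ r ^ 1 = 1 := by
        have h3 := pow_orderOf_eq_one z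
        rw [hz] at h3
        rw [pow_one, ← SubmonoidClass.coe_pow, h3, OneMemClass.coe_one]
      have h3 := Cfsg.Agent.OddCyclic.CoverTrans.mem_commutator_of_center hLperf' P z.2 h2
      have hcyc := (h.subgroup L).odd r P hr hr2
      have h4 : ⁅(P : Subgroup L), (P : Subgroup L)⁆ = ⊥ := by
        rw [commutator_eq_bot_iff_le_centralizer]
        intro x hx
        rw [mem_centralizer_iff]
        intro y hy
        have h5 := (inferInstance : IsMulCommutative (P : Subgroup L)).is_comm.comm (⟨y, hy⟩ : (P : Subgroup L)) ⟨x, hx⟩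
        exact congrArg Subtype.val h5
      rw [h4, mem_bot] at h3
      have h5 : z = 1 := Subtype.ext h3
      rw [h5, orderOf_one] at hz
      exact hr.one_lt.ne hz
    have h2 := Nat.eq_prime_pow_of_unique_prime_dvd (Nat.card_pos.ne') h1
    exact IsPGroup.of_card h2
  -- `M = L ⊓ R`
  set M : Subgroup N := L ⊓ R with hM
  have hMcen : (center L).map L.subtype = M := by
    rw [← hfk]
    ext x
    constructor
    · rintro ⟨z, hz, rfl⟩
      exact ⟨z.2, (hπ1 _).1 hz⟩
    · rintro ⟨h1, h2⟩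
      exact ⟨⟨x, h1⟩, (hπ1 _).2 h2, rfl⟩
  have hM2 : IsPGroup 2 M := by
    rw [← hMcen]
    exact hcen2.map _
  have hMcard : Nat.card M = Nat.card (center L) := by
    rw [← hMcen]
    exact card_map_of_injective L.subtype_injective
  -- Sylow subgroups
  obtain ⟨Q, hQ⟩ := hcen2.exists_le_sylow
  set Q' : Subgroup N := (Q : Subgroup L).map L.subtype with hQ'
  have hQ'2 : IsPGroup 2 Q' := Q.2.map _
  obtain ⟨P, hP⟩ := hQ'2.exists_le_sylow
  have hMQ : M ≤ Q' := by
    rw [← hMcen]
    exact map_mono hQ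
  obtain ⟨C₀, hC₀, hi, hle⟩ := inf_cyclic h R hnc P
  set C : Subgroup N := C₀.map (P : Subgroup N).subtype with hC
  have hCcyc : IsCyclic C :=
    isCyclic_of_surjective ((P : Subgroup N).subtype.subgroupMap C₀) (MonoidHom.subgroupMap_surjective _ _)
  -- orders
  have hQcard : 4 * Nat.card M ∣ Nat.card Q' := by
    have h1 : Nat.card Q' = Nat.card Q := card_map_of_injective L.subtype_injective
    obtain ⟨n, hn⟩ := hcen2.exists_card_eq
    rw [h1, hMcard, hn]
    have h2 : 4 * 2 ^ n = 2 ^ (n + 2) := by ring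
    rw [h2]
    apply Q.pow_dvd_card_of_pow_dvd_card
    rw [← h2, ← hn, ← index_mul_card (center L), ← hfk, index_ker, MonoidHom.range_eq_top.2 hfs]
    rw [Nat.card_congr topEquiv.toEquiv]
    exact Nat.mul_dvd_mul_right h4 _
  have hT2 : IsPGroup 2 ((P : Subgroup N) ⊓ R : Subgroup N) := P.2.to_le inf_le_left
  have hA2 : IsPGroup 2 (C ⊓ Q' : Subgroup N) := hQ'2.to_le inf_le_right
  have hPR : (P : Subgroup N) ⊓ R ≤ M := by
    rcases le_or_le_of_cyclic hCcyc hle (inf_le_left : C ⊓ Q' ≤ C) hT2 hA2 with h1 | h1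
    · exact le_inf (h1.trans (inf_le_right.trans (map_subtype_le _))) inf_le_right
    · exfalso
      have h2 : C ⊓ Q' ≤ M := le_inf (inf_le_right.trans (map_subtype_le _)) (h1.trans inf_le_right)
      have h3 : C.relIndex Q' ∣ 2 := by
        have hn := normal_of_index_dvd_two hi
        have h5 : C.relIndex Q' = C₀.relIndex (Q'.subgroupOf P) := by
          have h6 : (C₀.map (P : Subgroup N).subtype).relIndex ((Q'.subgroupOf P).map (P : Subgroup N).subtype) =
              C₀.relIndex (Q'.subgroupOf P) :=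
            relIndex_map_map_of_injective _ _ (P : Subgroup N).subtype_injective
          rw [map_subgroupOf_eq_of_le hP] at h6
          exact h6
        rw [h5]
        exact (relIndex_dvd_index_of_normal _ _).trans hi
      have h5 : Nat.card Q' = Nat.card (C ⊓ Q' : Subgroup N) * C.relIndex Q' := by
        rw [← inf_relIndex_right]
        have h10 := card_mul_index ((C ⊓ Q').subgroupOf Q')
        rw [Nat.card_congr (subgroupOfEquivOfLe (inf_le_right : C ⊓ Q' ≤ Q')).toEquiv] at h10
        exact h10.symm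
      have h6 : Nat.card (C ⊓ Q' : Subgroup N) ≤ Nat.card M := Nat.le_of_dvd Nat.card_pos (card_dvd_of_le h2)
      have h7 : C.relIndex Q' ≤ 2 := Nat.le_of_dvd (by norm_num) h3
      have h8 : 4 * Nat.card M ≤ Nat.card Q' := Nat.le_of_dvd Nat.card_pos hQcard
      have h9 : 0 < Nat.card M := Nat.card_pos
      have h10 : Nat.card (C ⊓ Q' : Subgroup N) * C.relIndex Q' ≤ Nat.card M * 2 := Nat.mul_le_mul h6 h7
      omega
  have hMR : ¬ 2 ∣ M.relIndex R := by
    intro h1
    apply Cfsg.Agent.CharactersDeep.QuatSylow.not_dvd_relIndex_of_normal P R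
    rw [← inf_relIndex_right]
    have h2 : (P : Subgroup N) ⊓ R = M :=
      le_antisymm hPR (le_inf (hMQ.trans hP) inf_le_right)
    rwa [h2]
  -- the complement
  have hMn : (M.subgroupOf R).Normal := inferInstance
  obtain ⟨X₀, hX₀⟩ := exists_right_complement'_of_coprime (N := M.subgroupOf R) (by
    obtain ⟨n, hn⟩ := hM2.exists_card_eq
    rw [Nat.card_congr (subgroupOfEquivOfLe (inf_le_right : M ≤ R)).toEquiv, hn]
    apply Nat.Coprime.pow_left
    exact (Nat.Prime.coprime_iff_not_dvd Nat.prime_two).2 hMR)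
  set X : Subgroup N := X₀.map R.subtype with hX
  have hXR : X ≤ R := map_subtype_le _
  have hXcard : Nat.card X = M.relIndex R := by
    rw [hX, card_map_of_injective R.subtype_injective]
    exact hX₀.symm.index_eq_card.symm
  have hXodd : Odd (Nat.card X) := by
    rw [hXcard, Nat.odd_iff, ← Nat.two_dvd_ne_zero]
    exact hMR
  have hMX : ∀ r ∈ R, ∃ m ∈ M, ∃ x ∈ X, m * x = r := by
    intro r hr
    have h1 : (⟨r, hr⟩ : R) ∈ M.subgroupOf R ⊔ X₀ := by rw [hX₀.sup_eq_top]; exact mem_top _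
    obtain ⟨m, hm, x, hx, hmx⟩ := mem_sup_of_normal_left.1 h1
    exact ⟨m, hm, x, ⟨x, hx, rfl⟩, congrArg Subtype.val hmx⟩
  have hMXinf : M ⊓ X = ⊥ := by
    rw [eq_bot_iff]
    rintro y ⟨h1, ⟨x, hx, rfl⟩⟩
    have h2 : x ∈ M.subgroupOf R ⊓ X₀ := ⟨h1, hx⟩
    rw [hX₀.disjoint.eq_bot, mem_bot] at h2
    rw [mem_bot, h2]
    rfl
  have hNLR : ∀ g : N, ∃ l ∈ L, ∃ r ∈ R, l * r = g := by
    intro g
    have h1 : π g ∈ L.map π := by rw [hLmap]; exact mem_top _
    obtain ⟨l, hl, hlg⟩ := h1
    refine ⟨l, hl, l⁻¹ * g, ?_, by group⟩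
    rw [← hπ1, map_mul, map_inv, hlg, inv_mul_cancel]
  have hXn : X.Normal := by
    refine ⟨fun x hx g => ?_⟩
    obtain ⟨l, hl, r, hr, rfl⟩ := hNLR g
    obtain ⟨m, hm, y, hy, rfl⟩ := hMX r hr
    have h1 : y * x * y⁻¹ ∈ X := X.mul_mem (X.mul_mem hy hx) (X.inv_mem hy)
    have h2 : l * m * (y * x * y⁻¹) = y * x * y⁻¹ * (l * m) := hcomm _ (L.mul_mem hl hm.1) _ (hXR h1)
    have h3 : l * (m * y) * x * (l * (m * y))⁻¹ = y * x * y⁻¹ := by
      calc l * (m * y) * x * (l * (m * y))⁻¹ = (l * m * (y * x * y⁻¹)) * (l * m)⁻¹ := by group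
        _ = y * x * y⁻¹ := by rw [h2]; group
    rw [h3]
    exact h1
  have hXL : X ⊓ L = ⊥ := by
    rw [eq_bot_iff, ← hMXinf]
    exact le_inf (le_inf inf_le_right (inf_le_left.trans hXR)) inf_le_left
  refine ⟨X, L, hXn, hLn, hXL, ?_, ?_, hXodd, ?_, hLperf', hcen2, ?_⟩
  · rw [eq_top_iff]
    intro g _
    obtain ⟨l, hl, r, hr, rfl⟩ := hNLR g
    obtain ⟨m, hm, y, hy, rfl⟩ := hMX r hr
    rw [← mul_assoc]
    exact (X ⊔ L).mul_mem (mem_sup_right (L.mul_mem hl hm.1)) (mem_sup_left hy)
  · apply Nat.coprime_of_dvd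
    intro r hr h1 h2
    have hr2 : r ≠ 2 := by
      rintro rfl
      exact (Nat.not_even_iff_odd.2 hXodd) (even_iff_two_dvd.2 h1)
    exact no_common h.odd hr hr2 hXL (fun a ha b hb => (hcomm b hb a (hXR ha)).symm) h1 h2
  · exact IsZGroup.of_injective (inclusion_injective hXR)
  · exact ⟨(QuotientGroup.quotientMulEquivOfEq hfk.symm).trans (QuotientGroup.quotientKerEquivOfSurjective f hfs)⟩

end Cfsg.Agent.H511.AC
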