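import Mathlib
import Cfsg.Agent.H511.AlmostCyc
import Cfsg.Agent.SignalizersComponents.ComponentExists

/-!
# Groups in the class `PP` with trivial solvable radical

Such a nontrivial group has a simple normal subgroup with trivial centraliser.
-/

set_option autoImplicit false
set_option linter.style.haveILetI false

namespace Cfsg.Agent.H511.AC

open Subgroup
open Cfsg.Agent.OddCyclic.T1Defs (OddCyc)
open Cfsg.Agent.SignalizersComponents.ComponentExists

universe u

variable {Q : Type u} [Group Q] [Finite Q]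

/-- A nontrivial group in `PP` with trivial solvable radical has a simple normal subgroup with trivial centraliser. -/
theorem exists_simple_normal [Nontrivial Q] (h : PP Q)
    (hrad : ∀ N : Subgroup Q, N.Normal → Group.IsSolvable N → N = ⊥)
    (h3 : ∀ K : Subgroup Q, ¬ Group.IsSolvable K → 3 ∣ Nat.card K) :
    ∃ N : Subgroup Q, N.Normal ∧ IsSimpleGroup N ∧ ¬ Group.IsSolvable N ∧ centralizer (N : Set Q) = ⊥ := by
  classical
  -- a minimal normal subgroup
  obtain ⟨N, hN⟩ := (Set.toFinite {N : Subgroup Q | N.Normal ∧ N ≠ ⊥}).exists_minimal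
    ⟨⊤, inferInstance, top_ne_bot⟩
  have hNn : N.Normal := hN.prop.1
  have hNb : N ≠ ⊥ := hN.prop.2
  have hNmin : ∀ M : Subgroup Q, M.Normal → M ≠ ⊥ → M ≤ N → M = N := fun M h1 h2 h3 =>
    le_antisymm h3 (hN.le_of_le ⟨h1, h2⟩ h3)
  have hNs : ¬ Group.IsSolvable N := fun hs => hNb (hrad N hNn hs)
  -- a minimal normal subgroup of `N`
  obtain ⟨K, hK⟩ := (Set.toFinite {K : Subgroup Q | K ≤ N ∧ K ≠ ⊥ ∧ N ≤ normalizer (K : Set Q)}).exists_minimal
    ⟨N, le_rfl, hNb, le_normalizer⟩
  obtain ⟨hKN, hKb, hKn⟩ := hK.prop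
  have hKmin : ∀ M : Subgroup Q, M ≤ K → M ≠ ⊥ → N ≤ normalizer (M : Set Q) → M = K := fun M h1 h2 h3 =>
    le_antisymm h1 (hK.le_of_le ⟨h1.trans hKN, h2, h3⟩ h1)
  have hKsub : K.IsSubnormal := by
    refine IsSubnormal.step K N hKN ?_ ?_
    · exact IsSubnormal.step N ⊤ le_top IsSubnormal.top (by infer_instance)
    · rwa [normal_subgroupOf_iff_le_normalizer hKN]
  have hKs : ¬ Group.IsSolvable K := by
    intro hs
    obtain ⟨M, h1, h2, h3⟩ := exists_normal_isSolvable_of_isSubnormal hKsub hs
    rw [hrad M h1 h2] at h3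
    exact hKb (le_bot_iff.1 h3)
  have hKconj : ∀ g : Q, K.map (MulAut.conj g).toMonoidHom = K := by
    intro g
    set K' := K.map (MulAut.conj g).toMonoidHom with hK'
    have hNconj : N.map (MulAut.conj g).toMonoidHom = N := by
      ext x
      constructor
      · rintro ⟨y, hy, rfl⟩
        exact hNn.conj_mem y hy g
      · intro hx
        refine ⟨g⁻¹ * x * g, ?_, ?_⟩
        · have := hNn.conj_mem x hx g⁻¹
          rwa [inv_inv] at this
        · show g * (g⁻¹ * x * g) * g⁻¹ = x
          group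
    have h1 : K' ≤ N := by
      rw [← hNconj]
      exact map_mono hKN
    have h2 : N ≤ normalizer (K' : Set Q) := by
      have h3 := map_mono (f := (MulAut.conj g).toMonoidHom) hKn
      rw [hNconj] at h3
      refine h3.trans ?_
      rw [hK', coe_map]
      exact le_normalizer_map _
    have h4 : N ≤ normalizer ((K ⊓ K' : Subgroup Q) : Set Q) := by
      intro x hx
      rw [mem_normalizer_iff]
      intro y
      have h5 := (mem_normalizer_iff.1 (hKn hx)) y
      have h6 := (mem_normalizer_iff.1 (h2 hx)) y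
      exact ⟨fun hy => ⟨h5.1 hy.1, h6.1 hy.2⟩, fun hy => ⟨h5.2 hy.1, h6.2 hy.2⟩⟩
    have hcard : Nat.card K' = Nat.card K := card_map_of_injective (MulAut.conj g).injective
    by_cases hb : K ⊓ K' = ⊥
    · exfalso
      refine no_common h.odd Nat.prime_three (by norm_num) hb ?_ (h3 K hKs) (by rw [hcard]; exact h3 K hKs)
      intro a ha b hb'
      have h5 : a * b * a⁻¹ * b⁻¹ ∈ K ⊓ K' := by
        constructor
        · have h6 : b * a⁻¹ * b⁻¹ ∈ K := ((mem_normalizer_iff.1 (hKn (h1 hb'))) a⁻¹).1 (K.inv_mem ha)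
          have h7 : a * b * a⁻¹ * b⁻¹ = a * (b * a⁻¹ * b⁻¹) := by group
          rw [h7]
          exact K.mul_mem ha h6
        · have h6 : a * b * a⁻¹ ∈ K' := ((mem_normalizer_iff.1 (h2 (hKN ha))) b).1 hb'
          exact K'.mul_mem h6 (K'.inv_mem hb')
      rw [hb, mem_bot] at h5
      calc a * b = (a * b * a⁻¹ * b⁻¹) * (b * a) := by group
        _ = b * a := by rw [h5, one_mul]
    · have h5 : K ⊓ K' = K := hKmin _ inf_le_left hb h4
      have h6 : K ≤ K' := by rw [← h5]; exact inf_le_right
      exact (eq_of_le_of_card_ge h6 hcard.le).symm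
  have hKnorm : K.Normal := by
    refine ⟨fun x hx g => ?_⟩
    rw [← hKconj g]
    exact ⟨x, hx, rfl⟩
  have hKeq : K = N := hNmin K hKnorm hKb hKN
  subst hKeq
  have hKnt : Nontrivial K := (nontrivial_iff_ne_bot K).2 hKb
  have hsimple : IsSimpleGroup K := by
    refine { eq_bot_or_eq_top_of_normal := ?_ }
    intro H hH
    by_cases hb : H = ⊥
    · exact Or.inl hb
    right
    have h1 : H.map K.subtype ≠ ⊥ := by
      rw [Ne, map_eq_bot_iff_of_injective _ K.subtype_injective]
      exact hb
    have h2 : K ≤ normalizer ((H.map K.subtype : Subgroup Q) : Set Q) := by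
      rw [← normal_subgroupOf_iff_le_normalizer (map_subtype_le H), subgroupOf,
        comap_map_eq_self_of_injective K.subtype_injective]
      exact hH
    have h3 := hKmin _ (map_subtype_le H) h1 h2
    rw [eq_top_iff]
    intro x _
    have h4 : (x : Q) ∈ H.map K.subtype := by rw [h3]; exact x.2
    obtain ⟨y, hy, hyx⟩ := h4
    rwa [Subtype.ext hyx] at hy
  have hcn : (centralizer (K : Set Q)).Normal := inferInstance
  have hinf : K ⊓ centralizer (K : Set Q) = ⊥ := by
    apply hrad _ inferInstance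
    apply Group.isSolvable_of_comm
    rintro ⟨a, ha⟩ ⟨b, hb⟩
    exact Subtype.ext (mem_centralizer_iff.1 hb.2 a ha.1)
  refine ⟨K, hKnorm, hsimple, hKs, ?_⟩
  by_contra hc
  have hcs : ¬ Group.IsSolvable (centralizer (K : Set Q)) := fun hs => hc (hrad _ hcn hs)
  exact no_common h.odd Nat.prime_three (by norm_num) hinf
    (fun a ha b hb => mem_centralizer_iff.1 hb a ha) (h3 K hKs) (h3 _ hcs)

omit [Finite Q] in
/-- index of a normal subgroup with trivial centraliser all of whose outer automorphism group has order at most 2 -/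
theorem index_dvd_two {N : Subgroup Q} [N.Normal] (hc : centralizer (N : Set Q) = ⊥)
    (hout : (MulAut.conj : N →* MulAut N).range.index ∣ 2) : N.index ∣ 2 := by
  have hn := normal_of_index_dvd_two hout
  have h1 : N = (MulAut.conj : N →* MulAut N).range.comap (MulAut.conjNormal : Q →* MulAut N) := by
    ext g
    rw [mem_comap]
    constructor
    · intro hg
      exact ⟨⟨g, hg⟩, MulEquiv.ext fun x => Subtype.ext rfl⟩
    · rintro ⟨n, hn⟩
      have h2 : (n : Q)⁻¹ * g ∈ centralizer (N : Set Q) := by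
        rw [mem_centralizer_iff]
        intro x hx
        have h3 := congrArg (fun f : MulAut N => ((f ⟨x, hx⟩ : N) : Q)) hn
        have h4 : (n : Q) * x * (n : Q)⁻¹ = g * x * g⁻¹ := h3
        have h5 : x = (n : Q)⁻¹ * (g * x * g⁻¹) * n := by rw [← h4]; group
        calc x * ((n : Q)⁻¹ * g) = ((n : Q)⁻¹ * (g * x * g⁻¹) * n) * ((n : Q)⁻¹ * g) := by rw [← h5]
          _ = (n : Q)⁻¹ * g * x := by group
      rw [hc, mem_bot, inv_mul_eq_one] at h2
      rw [← h2]
      exact n.2
  rw [h1, index_comap]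
  exact (relIndex_dvd_index_of_normal _ _).trans hout

end Cfsg.Agent.H511.AC
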