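import Mathlib
import Cfsg.Agent.H511.AlmostCycRad
import Cfsg.Agent.H511.AlmostCycProd
import Cfsg.Agent.H511.AlmostCycOut
import Cfsg.Agent.OddCyclic.Main.Rows
import Cfsg.Agent.OddCyclic.CoverTrans
import Cfsg.Agent.OddCyclic.CompJOneTools
import Cfsg.Agent.LieClassical.FieldTransfer

/-!
# The structure theorem for non-solvable groups in the class `PP`

The classification of the simple groups of 2-rank at most 2 and the odd order theorem are hypotheses.
-/

set_option autoImplicit false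
set_option linter.style.haveILetI false

namespace Cfsg.Agent.H511.AC

open Subgroup Cfsg
open Cfsg.Agent.OddCyclic.T1Defs (OddCyc)
open Cfsg.Agent.OddCyclic.Main.Rows

universe u

/-- groups in `PP` have 2-rank at most 2 -/
theorem PP.rank {G : Type*} [Group G] [Finite G] (h : PP G) : PRankLE 2 2 G := by
  intro A hA hA2
  have h1 : IsPGroup 2 A := fun a => ⟨1, by
    rw [pow_one]
    exact Subtype.ext (hA2 a a.2)⟩
  obtain ⟨P, hP⟩ := h1.exists_le_sylow
  obtain ⟨D, hD, hi⟩ := (h.two P).of_injective (inclusion hP) (inclusion_injective hP)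
  obtain ⟨d, hd⟩ := hD.exists_generator
  have h2 : Nat.card D ∣ 2 := by
    have h3 : zpowers d = ⊤ := by
      rw [eq_top_iff]
      intro x _
      exact hd x
    have h4 : Nat.card D = orderOf d := by
      rw [← Nat.card_zpowers, h3, Nat.card_congr topEquiv.toEquiv]
    rw [h4]
    apply orderOf_dvd_of_pow_eq_one
    exact Subtype.ext (Subtype.ext (hA2 (d : A) (d : A).2))
  have h3 := card_mul_index D
  have h4 : Nat.card D ≤ 2 := Nat.le_of_dvd (by norm_num) h2
  have h5 : D.index ≤ 2 := Nat.le_of_dvd (by norm_num) hi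
  calc Nat.card A = Nat.card D * D.index := h3.symm
    _ ≤ 2 * 2 := Nat.mul_le_mul h4 h5
    _ = 2 ^ 2 := by norm_num

/-- the conclusion of the classification of simple groups of 2-rank at most 2 -/
def RankTwoList (G : Type u) [Group G] : Prop :=
    (∃ (F : Type) (_ : Field F) (_ : Fintype F), Odd (Fintype.card F) ∧ 5 ≤ Fintype.card F ∧
        Nonempty (G ≃* Matrix.ProjectiveSpecialLinearGroup (Fin 2) F)) ∨
      (∃ (F : Type) (_ : Field F) (_ : Fintype F), Odd (Fintype.card F) ∧
        Nonempty (G ≃* Matrix.ProjectiveSpecialLinearGroup (Fin 3) F)) ∨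
      (∃ (F : Type) (_ : Field F) (_ : Fintype F) (q : ℕ), Fintype.card F = q ^ 2 ∧ Odd q ∧
        Nonempty (G ≃* Cfsg.PSU 3 F q)) ∨
      (∃ (F : Type) (_ : Field F) (_ : Fintype F), Fintype.card F = 16 ∧ Nonempty (G ≃* Cfsg.PSU 3 F 4)) ∨
      Nonempty (G ≃* alternatingGroup (Fin 7)) ∨
      Cfsg.IsM11 G

/-- the simple groups in `PP` -/
theorem simple_psl {G : Type u} [Group G] [Finite G] (hc : OddCyc G) (h : RankTwoList G) :
    ∃ (p : ℕ) (_ : Fact p.Prime), 5 ≤ p ∧
      Nonempty (G ≃* Matrix.ProjectiveSpecialLinearGroup (Fin 2) (ZMod p)) := by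
  rcases h with ⟨F, i1, i2, ho, h5, ⟨e⟩⟩ | ⟨F, i1, i2, ho, ⟨e⟩⟩ |
    ⟨F, i1, i2, q, hF, ho, ⟨e⟩⟩ | ⟨F, i1, i2, hF, ⟨e⟩⟩ | ⟨e⟩ | h
  · have hp := psl_two_prime ho (oddCyc_congr e hc)
    refine ⟨Fintype.card F, ⟨hp⟩, h5, ⟨?_⟩⟩
    have : Fact (Fintype.card F).Prime := ⟨hp⟩
    exact e.trans (Cfsg.Agent.LieClassical.FieldTransfer.pslCongr (ZMod.ringEquivOfPrime F hp rfl).symm)
  · exact (psl_three ho (oddCyc_congr e hc)).elim
  · exact (psu_three_odd hF ho (oddCyc_congr e hc)).elim
  · exact (psu_three_even (q := 4) (by rw [hF]; norm_num) (by decide) le_rfl (oddCyc_congr e hc)).elim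
  · obtain ⟨e'⟩ := e
    exact (alt_seven (oddCyc_congr e' hc)).elim
  · exact (m11 h hc).elim

/-- **The structure theorem**, given the odd order theorem and the classification in 2-rank at most 2. -/
theorem main {G : Type u} [Group G] [Finite G] (hns : ¬ Group.IsSolvable G) (h : PP G)
    (hOO : ∀ (H : Type u) [Group H] [Finite H], Odd (Nat.card H) → Group.IsSolvable H)
    (hR2 : ∀ (H : Type u) [Group H] [Finite H] [IsSimpleGroup H], ¬ IsMulCommutative H → PRankLE 2 2 H →
      RankTwoList H) :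
    ∃ G₀ : Subgroup G, G₀.Normal ∧ G₀.index ∣ 2 ∧
      ∃ X L : Subgroup ↥G₀, X.Normal ∧ L.Normal ∧ X ⊓ L = ⊥ ∧ X ⊔ L = ⊤ ∧ (Nat.card X).Coprime (Nat.card L) ∧
        Odd (Nat.card X) ∧ (∃ (C : Subgroup ↥X) (_ : C.Normal), IsCyclic C ∧ IsCyclic (↥X ⧸ C)) ∧
        ∃ (p : ℕ) (_ : Fact p.Prime), 5 ≤ p ∧
          (Nonempty (↥L ≃* Matrix.ProjectiveSpecialLinearGroup (Fin 2) (ZMod p)) ∨
           Nonempty (↥L ≃* Matrix.SpecialLinearGroup (Fin 2) (ZMod p))) := by
  -- order divisible by 3
  have h3 : ∀ {H : Type u} [Group H] [Finite H], PP H → ¬ Group.IsSolvable H → 3 ∣ Nat.card H := by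
    intro H _ _ hH hs
    by_contra hn
    exact hs (isSolvable_of_not_three hH hOO
      (fun P C hC hi h3 => Cfsg.Agent.OddCyclic.CompJOneTools.hasNormalPComplement_of_index_two P C hC hi h3) hn)
  obtain ⟨R, hRc, hRs, hRmax⟩ :=
    Cfsg.Agent.SignalizersComponents.ComponentExists.exists_solvableRadical G
  have hRn : R.Normal := inferInstance
  have hQP : PP (G ⧸ R) := h.quotient R
  have hrad : ∀ N : Subgroup (G ⧸ R), N.Normal → Group.IsSolvable N → N = ⊥ := by
    intro N hN hs
    have h1 : N.comap (QuotientGroup.mk' R) ≤ R := by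
      apply hRmax _ inferInstance
      let f : N.comap (QuotientGroup.mk' R) →* N := (QuotientGroup.mk' R).subgroupComap N
      apply Group.isSolvable_of_ker_le_range ((inclusion
        (show R ≤ N.comap (QuotientGroup.mk' R) from ?_))) f ?_
      · intro x hx
        rw [mem_comap, (show QuotientGroup.mk' R x = 1 from (QuotientGroup.eq_one_iff x).2 hx)]
        exact N.one_mem
      · intro x hx
        have h2 : QuotientGroup.mk' R (x : G) = 1 := congrArg Subtype.val hx
        exact ⟨⟨x, (QuotientGroup.eq_one_iff (x : G)).1 h2⟩, rfl⟩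
    rw [eq_bot_iff]
    intro y hy
    obtain ⟨x, rfl⟩ := QuotientGroup.mk'_surjective R y
    rw [mem_bot]
    exact (QuotientGroup.eq_one_iff x).2 (h1 hy)
  have hnt : Nontrivial (G ⧸ R) := by
    by_contra hc
    rw [not_nontrivial_iff_subsingleton] at hc
    apply hns
    have h1 : Group.IsSolvable (G ⧸ R) := Group.isSolvable_of_comm fun a b => Subsingleton.elim _ _
    exact (Group.isSolvable_iff_subgroup_quotient R).2 ⟨hRs, h1⟩
  obtain ⟨N, hNn, hNsimp, hNns, hNc⟩ := exists_simple_normal hQP hrad (fun K hK => h3 (hQP.subgroup K) hK)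
  have hNP : PP N := hQP.subgroup N
  have hNna : ¬ IsMulCommutative N := fun hc => hNns (Group.isSolvable_of_comm fun a b => hc.is_comm.comm a b)
  obtain ⟨p, hp, hp5, ⟨e⟩⟩ := simple_psl hNP.odd (hR2 N hNna hNP.rank)
  have hNi : N.index ∣ 2 := index_dvd_two hNc (index_inner_psl e)
  -- `G₀`
  set π : G →* G ⧸ R := QuotientGroup.mk' R with hπ
  have hπs : Function.Surjective π := QuotientGroup.mk'_surjective R
  set G₀ : Subgroup G := N.comap π with hG₀
  have hG₀i : G₀.index ∣ 2 := by
    rw [hG₀, index_comap_of_surjective N hπs]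
    exact hNi
  refine ⟨G₀, inferInstance, hG₀i, ?_⟩
  -- the quotient of `G₀`
  let f : G₀ →* N := π.subgroupComap N
  have hf : Function.Surjective f := π.subgroupComap_surjective_of_surjective N hπs
  have e1 : G₀ ⧸ f.ker ≃* N := QuotientGroup.quotientKerEquivOfSurjective f hf
  have hs1 : IsSimpleGroup (G₀ ⧸ f.ker) := e1.isSimpleGroup_congr.2 hNsimp
  have hns1 : ¬ Group.IsSolvable (G₀ ⧸ f.ker) := fun hc =>
    hNns (Group.isSolvable_of_surjective (f := e1.toMonoidHom) e1.surjective)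
  have h41 : 4 ∣ Nat.card (G₀ ⧸ f.ker) := by
    rw [Nat.card_congr e1.toEquiv]
    have h2 : 2 ∣ Nat.card N := by
      rw [← even_iff_two_dvd, ← Nat.not_odd_iff_even]
      exact fun ho => hNns (hOO N ho)
    by_contra h4
    have P : Sylow 2 N := default
    obtain ⟨n, hn⟩ := P.2.exists_card_eq
    have hn1 : n ≤ 1 := by
      by_contra hlt
      apply h4
      have h5 : 2 ^ 2 ∣ Nat.card P := by rw [hn]; exact pow_dvd_pow 2 (by omega)
      exact h5.trans (card_subgroup_dvd_card _)
    have hcyc : IsCyclic P := by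
      interval_cases n
      · have : Subsingleton P := (Nat.card_eq_one_iff_unique.1 (by rw [hn, pow_zero])).1
        exact isCyclic_of_subsingleton
      · have : Fact (Nat.Prime 2) := ⟨Nat.prime_two⟩
        exact isCyclic_of_prime_card (p := 2) (by rw [hn, pow_one])
    have h6 := Cfsg.Agent.SmallSimple.Burnside.card_eq_of_isCyclic_minFac
      ((Nat.minFac_eq_two_iff _).2 h2) P hcyc
    apply hNna
    have : Fact (Nat.Prime 2) := ⟨Nat.prime_two⟩
    have : IsCyclic N := isCyclic_of_prime_card (p := 2) h6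
    infer_instance
  obtain ⟨X, L, hXn, hLn, hinf, hsup, hcop, hXo, hXZ, hLp, hLc, ⟨e2⟩⟩ :=
    exists_prod (h.subgroup G₀) f.ker hns1 h41
  refine ⟨X, L, hXn, hLn, hinf, hsup, hcop, hXo, ?_, p, hp, hp5, ?_⟩
  · refine ⟨commutator X, inferInstance, IsZGroup.isCyclic_commutator X, ?_⟩
    exact (inferInstance : IsCyclic (Abelianization X))
  · have e3 : L ⧸ center L ≃* Matrix.ProjectiveSpecialLinearGroup (Fin 2) (ZMod p) := e2.trans (e1.trans e)
    have hodd : Odd (Nat.card (ZMod p)) := by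
      rw [Nat.card_zmod]
      exact hp.out.odd_of_ne_two (by omega)
    rcases Cfsg.Agent.OddCyclic.CoverTrans.sl_two_of_perfect hLp hLc hodd e3 with h1 | h1
    · left
      refine ⟨(QuotientGroup.quotientBot.symm.trans (QuotientGroup.quotientMulEquivOfEq h1.symm)).trans e3⟩
    · exact Or.inr h1

end Cfsg.Agent.H511.AC
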