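import Mathlib
import Cfsg.Agent.S0071
import Cfsg.Agent.Lib.NilpotentCoprime
import Cfsg.Agent.Transfer.CentralTransfer
import Cfsg.Agent.H511.SelfNormStruct

/-!
# Groups in which every non-abelian subgroup is self-normalizing: Sylow subgroups
-/

set_option autoImplicit false
set_option linter.style.haveILetI false
set_option linter.unusedSectionVars false

open scoped Pointwise

namespace Cfsg.Agent.H511

open Subgroup

universe u

section

variable {G : Type*} [Group G] [Finite G]

/-- An element of a finite `p`-group of order prime to `p` is trivial. -/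
theorem eq_one_of_isPGroup_of_coprime {p : ℕ} [Fact p.Prime] {Q : Subgroup G} (hQ : IsPGroup p Q)
    {g : G} (hg : g ∈ Q) (hc : (orderOf g).Coprime p) : g = 1 := by
  obtain ⟨j, hj⟩ := hQ ⟨g, hg⟩
  have h1 : g ^ p ^ j = 1 := congrArg Subtype.val hj
  have h2 : orderOf g ∣ p ^ j := orderOf_dvd_of_pow_eq_one h1
  exact orderOf_eq_one_iff.1 (Nat.Coprime.eq_one_of_dvd (Nat.Coprime.pow_right j hc) h2)

/-- In a group with the structure, all `r`-subgroups are abelian. -/
theorem Struct.comm_of_isPGroup (h : Struct G) {r : ℕ} [hr : Fact r.Prime] (R : Subgroup G)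
    (hR : IsPGroup r R) : IsMulCommutative R := by
  obtain ⟨x, A, p, hp, hAn, hAc, ⟨k, hk⟩, hpA, hcomp, hxp, hfix⟩ := h
  have hgen : ∀ g : G, ∃ (i : ℤ), ∃ a ∈ A, g = x ^ i * a := by
    intro g
    obtain ⟨⟨⟨_, ⟨i, rfl⟩⟩, ⟨a, ha⟩⟩, h1⟩ := hcomp.surjective g
    exact ⟨i, a, ha, h1.symm⟩
  have hquot : ∀ a b : G, a * b * a⁻¹ * b⁻¹ ∈ A := by
    intro a b
    obtain ⟨i, a', ha', rfl⟩ := hgen a
    obtain ⟨j, b', hb', rfl⟩ := hgen b
    rw [← QuotientGroup.eq_one_iff]
    have h1 : ((a' : G) : G ⧸ A) = 1 := (QuotientGroup.eq_one_iff _).2 ha'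
    have h2 : ((b' : G) : G ⧸ A) = 1 := (QuotientGroup.eq_one_iff _).2 hb'
    simp only [QuotientGroup.mk_mul, QuotientGroup.mk_inv, QuotientGroup.mk_zpow, h1, h2, mul_one,
      mul_inv_rev, inv_one, one_mul]
    group
  rw [comm_iff]
  by_cases hrp : r = p
  · subst hrp
    intro a ha b hb
    have h1 := hquot a b
    have h2 : a * b * a⁻¹ * b⁻¹ ∈ R :=
      R.mul_mem (R.mul_mem (R.mul_mem ha hb) (R.inv_mem ha)) (R.inv_mem hb)
    have h3 : a * b * a⁻¹ * b⁻¹ = 1 := by
      obtain ⟨j, hj⟩ := hR ⟨_, h2⟩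
      have hj' : (a * b * a⁻¹ * b⁻¹) ^ r ^ j = 1 := congrArg Subtype.val hj
      have h4 : orderOf (a * b * a⁻¹ * b⁻¹) ∣ r ^ j := orderOf_dvd_of_pow_eq_one hj'
      have h5 : orderOf (a * b * a⁻¹ * b⁻¹) ∣ Nat.card A := by
        have := orderOf_dvd_natCard (⟨_, h1⟩ : A)
        rwa [← Subgroup.orderOf_coe] at this
      have h6 : (r ^ j).Coprime (Nat.card A) :=
        Nat.Coprime.pow_left j ((Nat.Prime.coprime_iff_not_dvd hp).2 hpA)
      have h7 := Nat.dvd_gcd h4 h5
      rw [Nat.coprime_iff_gcd_eq_one.1 h6] at h7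
      exact orderOf_eq_one_iff.1 (Nat.dvd_one.1 h7)
    rw [mul_inv_eq_one, mul_inv_eq_iff_eq_mul] at h3
    exact h3
  · -- R ≤ A
    have hle : R ≤ A := by
      intro g hg
      obtain ⟨j, hj⟩ := hR ⟨g, hg⟩
      have hj' : g ^ r ^ j = 1 := congrArg Subtype.val hj
      have h1 : ((g : G) : G ⧸ A) ^ r ^ j = 1 := by
        rw [← QuotientGroup.mk_pow, hj', QuotientGroup.mk_one]
      have h2 : ((g : G) : G ⧸ A) ^ p ^ k = 1 := by
        obtain ⟨i, a, ha, rfl⟩ := hgen g
        have h3 : ((a : G) : G ⧸ A) = 1 := (QuotientGroup.eq_one_iff _).2 ha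
        rw [QuotientGroup.mk_mul, h3, mul_one, ← QuotientGroup.mk_pow, ← zpow_natCast, ← zpow_mul,
          mul_comm, zpow_mul, zpow_natCast, ← hk, pow_orderOf_eq_one, one_zpow, QuotientGroup.mk_one]
      have h4 := orderOf_dvd_of_pow_eq_one h1
      have h5 := orderOf_dvd_of_pow_eq_one h2
      have h6 : (r ^ j).Coprime (p ^ k) :=
        Nat.Coprime.pow_left j (Nat.Coprime.pow_right k ((Nat.coprime_primes hr.out hp).2 hrp))
      have h7 := Nat.dvd_gcd h4 h5
      rw [Nat.coprime_iff_gcd_eq_one.1 h6] at h7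
      have h8 := orderOf_eq_one_iff.1 (Nat.dvd_one.1 h7)
      exact (QuotientGroup.eq_one_iff _).1 h8
    intro a ha b hb
    exact comm_iff.1 hAc a (hle ha) b (hle hb)

/-- The key local step: in a non-nilpotent group with the structure, a normal `p`-subgroup `Q` not
centralized by the element `g` of order prime to `p` lies in an abelian subgroup containing all
`p`-elements, and normal. -/
theorem Struct.normal_sylow (h : Struct G) {p : ℕ} [hp : Fact p.Prime] (Q : Subgroup G)
    [hQn : Q.Normal] (hQ : IsPGroup p Q) {g : G} (hg : (orderOf g).Coprime p)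
    (hgQ : ¬ ∀ y ∈ Q, g * y = y * g) (R : Sylow p G) :
    IsMulCommutative (R : Subgroup G) ∧ (R : Subgroup G).Normal := by
  refine ⟨h.comm_of_isPGroup (R : Subgroup G) R.2, ?_⟩
  obtain ⟨x, A, q, hq, hAn, hAc, ⟨k, hk⟩, hqA, hcomp, hxp, hfix⟩ := h
  have hgen : ∀ g : G, ∃ (i : ℤ), ∃ a ∈ A, g = x ^ i * a := by
    intro g
    obtain ⟨⟨⟨_, ⟨i, rfl⟩⟩, ⟨a, ha⟩⟩, h1⟩ := hcomp.surjective g
    exact ⟨i, a, ha, h1.symm⟩
  have hquot : ∀ y : G, ((y : G) : G ⧸ A) ^ q ^ k = 1 := by
    intro y
    obtain ⟨i, a, ha, rfl⟩ := hgen y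
    have h3 : ((a : G) : G ⧸ A) = 1 := (QuotientGroup.eq_one_iff _).2 ha
    rw [QuotientGroup.mk_mul, h3, mul_one, ← QuotientGroup.mk_pow, ← zpow_natCast, ← zpow_mul,
      mul_comm, zpow_mul, zpow_natCast, ← hk, pow_orderOf_eq_one, one_zpow, QuotientGroup.mk_one]
  have hmemA : ∀ y : G, (orderOf y).Coprime q → y ∈ A := by
    intro y hy
    rw [← QuotientGroup.eq_one_iff]
    have h4 : orderOf ((y : G) : G ⧸ A) ∣ orderOf y := orderOf_map_dvd (QuotientGroup.mk' A) y
    have h5 := orderOf_dvd_of_pow_eq_one (hquot y)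
    have h6 : (orderOf y).Coprime (q ^ k) := Nat.Coprime.pow_right k hy
    have h7 := Nat.dvd_gcd h4 h5
    rw [Nat.coprime_iff_gcd_eq_one.1 h6] at h7
    exact orderOf_eq_one_iff.1 (Nat.dvd_one.1 h7)
  have hqp : q ≠ p := by
    rintro rfl
    apply hgQ
    intro y hy
    have hgA := hmemA g hg
    -- Q and A are disjoint normal subgroups
    have hdis : Disjoint A Q := by
      rw [disjoint_iff, eq_bot_iff]
      rintro z ⟨hz1, hz2⟩
      obtain ⟨j, hj⟩ := hQ ⟨z, hz2⟩
      have hj' : z ^ q ^ j = 1 := congrArg Subtype.val hj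
      have h4 : orderOf z ∣ q ^ j := orderOf_dvd_of_pow_eq_one hj'
      have h5 : orderOf z ∣ Nat.card A := by
        have := orderOf_dvd_natCard (⟨_, hz1⟩ : A)
        rwa [← Subgroup.orderOf_coe] at this
      have h6 : (q ^ j).Coprime (Nat.card A) :=
        Nat.Coprime.pow_left j ((Nat.Prime.coprime_iff_not_dvd hq).2 hqA)
      have h7 := Nat.dvd_gcd h4 h5
      rw [Nat.coprime_iff_gcd_eq_one.1 h6] at h7
      rw [Subgroup.mem_bot]
      exact orderOf_eq_one_iff.1 (Nat.dvd_one.1 h7)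
    exact Subgroup.commute_of_normal_of_disjoint A Q hAn hQn hdis g y hgA hy
  -- p-elements lie in A
  have hpA : ∀ y : G, ∀ j : ℕ, y ^ p ^ j = 1 → y ∈ A := by
    intro y j hj
    apply hmemA
    have h4 : orderOf y ∣ p ^ j := orderOf_dvd_of_pow_eq_one hj
    exact Nat.Coprime.coprime_dvd_left h4
      (Nat.Coprime.pow_left j ((Nat.coprime_primes hp.out hq).2 hqp.symm))
  have hRA : (R : Subgroup G) ≤ A := by
    intro y hy
    obtain ⟨j, hj⟩ := R.2 ⟨y, hy⟩
    exact hpA y j (congrArg Subtype.val hj)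
  -- R contains every p-element
  have hRall : ∀ y : G, ∀ j : ℕ, y ^ p ^ j = 1 → y ∈ R := by
    intro y j hj
    have hyA := hpA y j hj
    have hzA : Subgroup.zpowers y ≤ A := by
      rw [Subgroup.zpowers_le]; exact hyA
    have hle : (R : Subgroup G) ⊔ Subgroup.zpowers y ≤ A := sup_le hRA hzA
    have hpz : IsPGroup p (Subgroup.zpowers y) := by
      intro z
      obtain ⟨z, ⟨i, rfl⟩⟩ := z
      refine ⟨j, Subtype.ext ?_⟩
      change (y ^ i) ^ p ^ j = 1
      rw [← zpow_natCast, ← zpow_mul, mul_comm, zpow_mul, zpow_natCast, hj, one_zpow]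
    have hnorm : (R : Subgroup G) ≤ Subgroup.normalizer ((Subgroup.zpowers y : Subgroup G) : Set G) := by
      intro r hr
      rw [Subgroup.mem_normalizer_iff]
      intro z
      constructor
      · intro hz
        rw [comm_iff.1 hAc r (hRA hr) z (hzA hz)]
        simpa using hz
      · intro hz
        have h5 := comm_iff.1 hAc r (hRA hr) _ (hzA hz)
        have h6 : r * z * r⁻¹ = z := by
          have h8 : r * (r * z * r⁻¹) = r * z := by rw [h5]; group
          exact mul_left_cancel h8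
        rwa [h6] at hz
    have hsup : IsPGroup p ((R : Subgroup G) ⊔ Subgroup.zpowers y : Subgroup G) :=
      R.2.to_sup_of_normal_right' hpz hnorm
    have h9 := R.3 hsup le_sup_left
    change y ∈ (R : Subgroup G)
    rw [← h9]
    exact Subgroup.mem_sup_right (Subgroup.mem_zpowers y)
  constructor
  intro y hy z
  obtain ⟨j, hj⟩ := R.2 ⟨y, hy⟩
  have hj' : y ^ p ^ j = 1 := congrArg Subtype.val hj
  apply hRall _ j
  rw [conj_pow, hj']
  group

end

/-- The Sylow `p`-subgroups are abelian as soon as all proper normal subgroups are central. -/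
theorem comm_sylow {G : Type u} [Group G] [Finite G] (h : SelfNorm G)
    (hns : ¬ Group.IsSolvable G)
    (hcen : ∀ N : Subgroup G, N.Normal → N ≠ ⊤ → N ≤ Subgroup.center G)
    (hsub : ∀ H : Subgroup G, H ≠ ⊤ → Group.IsSolvable H ∨ IsSimpleGroup H)
    {p : ℕ} [hp : Fact p.Prime] (P : Sylow p G) : IsMulCommutative (P : Subgroup G) := by
  classical
  by_contra hPc
  -- no normal p-complement
  have hno : ¬ ∃ N : Subgroup G, N.Normal ∧ N.IsComplement' (P : Subgroup G) := by
    rintro ⟨N, hN, hcomp⟩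
    by_cases hNt : N = ⊤
    · subst hNt
      have h1 : (P : Subgroup G) = ⊥ := by
        have := hcomp.disjoint
        simpa using this
      apply hPc
      rw [h1]
      infer_instance
    · have hNc := h.comm_of_normal N hNt
      apply hns
      haveI : Group.IsSolvable N := by
        apply Group.isSolvable_of_comm
        intro a b
        exact hNc.is_comm.comm a b
      haveI : Group.IsSolvable (G ⧸ N) := by
        have hpq : IsPGroup p (G ⧸ N) :=
          Cfsg.Agent.Transfer.NormalPComplement.isPGroup_quotient_of_isComplement' P.2 hcomp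
        haveI := hpq.isNilpotent
        infer_instance
      exact (Group.isSolvable_iff_subgroup_quotient N).2 ⟨inferInstance, inferInstance⟩
  have h1 : ∃ Q : Subgroup G, IsPGroup p Q ∧ ∃ g ∈ Subgroup.normalizer (Q : Set G),
      (orderOf g).Coprime p ∧ g ∉ Subgroup.centralizer (Q : Set G) := by
    by_contra hcon
    push Not at hcon
    apply hno
    rw [Cfsg.Agent.S0071.result P]
    intro Q hQP g hg hgc
    exact hcon Q (P.2.to_le hQP) g hg hgc
  -- choose Q of maximal order
  let S : Set (Subgroup G) := {Q | IsPGroup p Q ∧ ∃ g ∈ Subgroup.normalizer (Q : Set G),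
      (orderOf g).Coprime p ∧ g ∉ Subgroup.centralizer (Q : Set G)}
  obtain ⟨Q, hQS, hQmax⟩ := Set.exists_max_image S (fun Q => Nat.card Q) (Set.toFinite S) h1
  obtain ⟨hQp, g, hgN, hgc, hgC⟩ := hQS
  have hgC' : ¬ ∀ y ∈ Q, g * y = y * g := by
    intro hc
    apply hgC
    rw [Subgroup.mem_centralizer_iff]
    intro y hy
    exact (hc y hy).symm
  -- Q is abelian
  have hQc : IsMulCommutative Q := by
    by_contra hQc
    have h2 := h Q hQc
    rw [h2] at hgN
    have h3 := eq_one_of_isPGroup_of_coprime hQp hgN hgc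
    apply hgC'
    intro y _
    rw [h3]; group
  have hHt : Subgroup.normalizer (Q : Set G) ≠ ⊤ := by
    intro hc
    rw [Subgroup.normalizer_eq_top_iff] at hc
    have hQt : Q ≠ ⊤ := by
      rintro rfl
      apply hPc
      exact comm_mono le_top hQc
    apply hgC'
    intro y hy
    exact Subgroup.mem_center_iff.1 (hcen Q hc hQt hy) g
  set H := Subgroup.normalizer (Q : Set G) with hHdef
  have hQH : Q ≤ H := Subgroup.le_normalizer
  haveI hQn : (Q.subgroupOf H).Normal := Subgroup.normal_in_normalizer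
  have hQ'p : IsPGroup p (Q.subgroupOf H) := hQp.comap_of_injective H.subtype H.subtype_injective
  have hgC'' : ¬ ∀ y ∈ Q.subgroupOf H, (⟨g, hgN⟩ : H) * y = y * ⟨g, hgN⟩ := by
    intro hc
    apply hgC'
    intro y hy
    exact congrArg Subtype.val (hc ⟨y, hQH hy⟩ (Subgroup.mem_subgroupOf.2 hy))
  have hHsolv : Group.IsSolvable H := by
    rcases hsub H hHt with h2 | h2
    · exact h2
    · exfalso
      rcases h2.eq_bot_or_eq_top_of_normal _ hQn with h3 | h3
      · apply hgC''
        intro y hy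
        rw [h3, Subgroup.mem_bot] at hy
        rw [hy]; group
      · apply hgC''
        intro y hy
        have hgQ : g ∈ Q := by
          have : (⟨g, hgN⟩ : H) ∈ Q.subgroupOf H := by rw [h3]; exact Subgroup.mem_top _
          exact Subgroup.mem_subgroupOf.1 this
        exact Subtype.ext (comm_iff.1 hQc g hgQ y (Subgroup.mem_subgroupOf.1 hy))
  have hHnn : ¬ Group.IsNilpotent H := by
    intro hc
    apply hgC''
    intro y hy
    apply Commute.eq
    obtain ⟨j, hj⟩ := hQ'p ⟨y, hy⟩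
    have hj' : y ^ p ^ j = 1 := congrArg Subtype.val hj
    have h3 : (orderOf (⟨g, hgN⟩ : H)).Coprime p := by
      rw [← Subgroup.orderOf_coe]; exact hgc
    exact Cfsg.Agent.Lib.NilpotentCoprime.commute_of_pow_eq_one
      (Nat.Coprime.pow_right j h3) (pow_orderOf_eq_one _) hj'
  have hstr : Struct H := (h.subgroup H).struct hHnn
  obtain ⟨R⟩ : Nonempty (Sylow p H) := inferInstance
  obtain ⟨hRc, hRn⟩ := hstr.normal_sylow (Q.subgroupOf H) hQ'p
    (g := ⟨g, hgN⟩) (by rw [← Subgroup.orderOf_coe]; exact hgc) hgC'' R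
  have hQR : Q.subgroupOf H ≤ (R : Subgroup H) := by
    obtain ⟨R', hR'⟩ := hQ'p.exists_le_sylow
    haveI := Sylow.unique_of_normal R hRn
    rwa [Subsingleton.elim R' R] at hR'
  let R' : Subgroup G := (R : Subgroup H).map H.subtype
  have hQR' : Q ≤ R' := by
    intro y hy
    exact ⟨⟨y, hQH hy⟩, hQR (Subgroup.mem_subgroupOf.2 hy), rfl⟩
  have hHR' : H ≤ Subgroup.normalizer (R' : Set G) := by
    intro y hy
    rw [Subgroup.mem_normalizer_iff_map_conj_eq]
    apply Subgroup.eq_of_le_of_card_ge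
    · rintro _ ⟨_, ⟨z, hz, rfl⟩, rfl⟩
      exact ⟨⟨y, hy⟩ * z * ⟨y, hy⟩⁻¹, hRn.conj_mem z hz ⟨y, hy⟩, rfl⟩
    · exact (Subgroup.card_map_of_injective (K := R') (f := (MulAut.conj y).toMonoidHom)
          (MulAut.conj y).injective).ge
  have hR'S : R' ∈ S := by
    refine ⟨R.2.map H.subtype, g, hHR' hgN, hgc, ?_⟩
    intro hc
    exact hgC (Subgroup.centralizer_le (show (Q : Set G) ⊆ R' from hQR') hc)
  have hQeq : Q = R' := Subgroup.eq_of_le_of_card_ge hQR' (hQmax R' hR'S)
  -- Q is Sylow in its normalizer, so Sylow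
  have hQsyl : ¬ p ∣ Q.index := by
    intro hdvd
    obtain ⟨n, hn⟩ := IsPGroup.iff_card.1 hQp
    have h2 : p ^ (n + 1) ∣ Nat.card G := by
      rw [← Subgroup.card_mul_index Q, hn, pow_succ]
      exact mul_dvd_mul_left _ hdvd
    obtain ⟨K, hKc, hQK⟩ := Sylow.exists_subgroup_card_pow_succ h2 hn
    haveI hQKn : (Q.subgroupOf K).Normal := by
      apply Subgroup.normal_of_index_eq_minFac_card
      have h3 : (Q.subgroupOf K).index = p := by
        have h4 := Subgroup.card_mul_index (Q.subgroupOf K)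
        have h5 : Nat.card (Q.subgroupOf K) = Nat.card Q :=
          Nat.card_congr (Subgroup.subgroupOfEquivOfLe hQK).toEquiv
        rw [h5, hn, hKc, pow_succ] at h4
        exact Nat.eq_of_mul_eq_mul_left (pow_pos hp.out.pos n) h4
      rw [h3, hKc]
      exact (Nat.Prime.pow_minFac hp.out (Nat.succ_ne_zero n)).symm
    have hKH : K ≤ H := (Subgroup.normal_subgroupOf_iff_le_normalizer hQK).1 hQKn
    have hKp : IsPGroup p (K.subgroupOf H) := by
      have : IsPGroup p K := IsPGroup.of_card hKc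
      exact this.comap_of_injective H.subtype H.subtype_injective
    obtain ⟨R2, hR2⟩ := hKp.exists_le_sylow
    haveI := Sylow.unique_of_normal R hRn
    rw [Subsingleton.elim R2 R] at hR2
    have hKR : K ≤ R' := by
      intro y hy
      exact ⟨⟨y, hKH hy⟩, hR2 (Subgroup.mem_subgroupOf.2 hy), rfl⟩
    rw [← hQeq] at hKR
    have h6 : Nat.card K ≤ Nat.card Q := Subgroup.card_le_of_le hKR
    rw [hn, hKc] at h6
    exact absurd h6 (not_le.2 (Nat.pow_lt_pow_right hp.out.one_lt (Nat.lt_succ_self n)))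
  -- so P ≅ Q is abelian
  let QS : Sylow p G := hQp.toSylow hQsyl
  apply hPc
  have e := P.equiv QS
  have hQSc : ∀ a b : QS, a * b = b * a := by
    intro a b
    exact Subtype.ext (comm_iff.1 hQc a a.2 b b.2)
  refine ⟨⟨fun a b => ?_⟩⟩
  apply e.injective
  rw [map_mul, map_mul, hQSc]

end Cfsg.Agent.H511
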